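import Mathlib
import Cfsg.Prelude.Def_FusionSystem

set_option autoImplicit false

/-! Piece statements for S5113 (existence of the saturated subsystem of `p`-power index over
`T ≥ hyp(F)`), as `Prop`s.  Each piece is proved in its own file as
`theorem main : <hypothesis pieces> → PPStmt.<Name>`.

Idea.  `Star F p P ψ`: `ψ` is a composite of restrictions of elements of `O^p(Aut_F(R))`, `R ≤ S`.
Every map of a saturated `F` is `c_s ∘ ψ` with `s ∈ S`, `ψ` a Star map (`Dec φ s`).  For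
`hyp(F) ≤ U ≤ S` the maps `c_t ∘ ψ`, `t ∈ U`, form a fusion system over `U` (`PSysSpec`), of
`p`-power index.  It is saturated when `U = T` is normal of index `p`: with `δ : S → A = S/T`,
a subgroup `P ≤ T` is `Rigid` when `c_u|P` Star forces `δ u = 1` (the "degree" `δ s` of
`φ = c_s ∘ ψ` is then well defined on `P`).  Main point: a fully normalized `Q ≤ T` with
`C_S(Q) ≤ T` is rigid (downward induction on `|Q|`, comparing with the local degree `LDeg` on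
`Aut_F(Q) = O^p(Aut_F(Q)) Aut_S(Q)`, `c_r n ↦ δ r`). -/

namespace Cfsg.Agent.Lib.Helper85.PPStmt

open Cfsg Cfsg.FusionSystem

universe u v

section defs

variable {Ω : Type u} [Group Ω] {S : Subgroup Ω}

/-- Star maps: composites of restrictions of elements of `O^p(Aut_F(R))`, `R ≤ S`. -/
inductive Star (F : FusionSystem S) (p : ℕ) : ∀ (P : Subgroup Ω), (P →* Ω) → Prop
  | base {R P : Subgroup Ω} (hR : R ≤ S) (β : F.autGroup R)
      (hβ : β ∈ pResidual p (F.autGroup R)) (hPR : P ≤ R) :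
      Star F p P ((R.subtype.comp (β : MulAut R).toMonoidHom).comp (Subgroup.inclusion hPR))
  | comp {P Q : Subgroup Ω} {φ : P →* Ω} {ψ : Q →* Ω} (h : ∀ x : P, φ x ∈ Q) :
      Star F p P φ → Star F p Q ψ → Star F p P (ψ.comp (φ.codRestrict Q h))

/-- `φ = c_s ∘ ψ` with `ψ` a Star map. -/
def Dec (F : FusionSystem S) (p : ℕ) {P : Subgroup Ω} (φ : P →* Ω) (s : S) : Prop :=
  ∃ ψ : P →* Ω, Star F p P ψ ∧ ∀ x : P, φ x = (s : Ω) * ψ x * (s : Ω)⁻¹

/-- `P` is rigid: conjugation by `u ∈ S` is a Star map on `P` only if `δ u = 1`. -/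
def Rigid (F : FusionSystem S) (p : ℕ) {A : Type v} [Group A] (δ : S →* A) (P : Subgroup Ω) :
    Prop :=
  ∀ u : S, Star F p P (conjHom P (u : Ω)) → δ u = 1

/-- local degree on `Aut_F(Q)`: `γ = c_r ∘ n` with `n ∈ O^p(Aut_F(Q))`, `r ∈ N_S(Q)`, `δ r = a`. -/
def LDeg (F : FusionSystem S) (p : ℕ) {A : Type v} [Group A] (δ : S →* A) (Q : Subgroup Ω)
    (γ : MulAut Q) (a : A) : Prop :=
  ∃ (n : F.autGroup Q) (r : S), n ∈ pResidual p (F.autGroup Q) ∧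
    (r : Ω) ∈ Subgroup.normalizer (Q : Set Ω) ∧ δ r = a ∧
    ∀ x : Q, ((γ x : Q) : Ω) = (r : Ω) * (((n : MulAut Q) x : Q) : Ω) * (r : Ω)⁻¹

/-- `E` is the system over `U` of the maps `c_t ∘ ψ`, `t ∈ U`, `ψ` Star. -/
def PSysSpec (F : FusionSystem S) (p : ℕ) (U : Subgroup Ω) (E : FusionSystem U) : Prop :=
  ∀ (P : Subgroup Ω) (φ : P →* Ω), φ ∈ E.Hom P ↔ P ≤ U ∧ ∃ t : S, (t : Ω) ∈ U ∧ Dec F p φ t

/-- degree data: `δ : S → A`, `A` commutative, kernel `T ⊇ hyp(F)`. -/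
structure DD (F : FusionSystem S) (p : ℕ) {A : Type v} [Group A] (δ : S →* A) (T : Subgroup Ω) :
    Prop where
  comm : ∀ a b : A, a * b = b * a
  le : T ≤ S
  ker : ∀ s : S, δ s = 1 ↔ (s : Ω) ∈ T
  hyp : F.hyperfocalSubgroup p ≤ T

end defs

/-! ### Star basics (no saturation) -/

/-- [SB1] -/
def StarMem : Prop := ∀ (Ω : Type u) [Group Ω] (S : Subgroup Ω) (F : FusionSystem S) (p : ℕ)
  (P : Subgroup Ω) (φ : P →* Ω), Star F p P φ → φ ∈ F.Hom P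

/-- [SB1] -/
def StarRestrict : Prop := ∀ (Ω : Type u) [Group Ω] (S : Subgroup Ω) (F : FusionSystem S) (p : ℕ)
  (P R : Subgroup Ω) (φ : P →* Ω) (h : R ≤ P), Star F p P φ →
    Star F p R (φ.comp (Subgroup.inclusion h))

/-- [SB1] a Star map moves `x` inside `x · hyp(F)` -/
def StarHyp : Prop := ∀ (Ω : Type u) [Group Ω] (S : Subgroup Ω) (F : FusionSystem S) (p : ℕ)
  (P : Subgroup Ω) (φ : P →* Ω), Star F p P φ →
    ∀ x : P, (x : Ω)⁻¹ * φ x ∈ F.hyperfocalSubgroup p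

/-- [SB1] -/
def StarOfResid : Prop := ∀ (Ω : Type u) [Group Ω] (S : Subgroup Ω) (F : FusionSystem S) (p : ℕ)
  (R : Subgroup Ω), R ≤ S → ∀ β : F.autGroup R, β ∈ pResidual p (F.autGroup R) →
    Star F p R (R.subtype.comp (β : MulAut R).toMonoidHom)

/-- [SB1] -/
def StarSubtype : Prop := ∀ (Ω : Type u) [Group Ω] (S : Subgroup Ω) (F : FusionSystem S) (p : ℕ)
  (P : Subgroup Ω), P ≤ S → Star F p P P.subtype

/-- [SB2] conjugating a Star map by `s ∈ S` gives a Star map (`P' = s P s⁻¹`, `φ' = c_s φ c_s⁻¹`) -/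
def StarConj : Prop := ∀ (Ω : Type u) [Group Ω] (S : Subgroup Ω) (F : FusionSystem S) (p : ℕ)
  (P P' : Subgroup Ω) (φ : P →* Ω) (φ' : P' →* Ω) (s : Ω), s ∈ S → Star F p P φ →
    ∀ (hP' : ∀ x : P, s * (x : Ω) * s⁻¹ ∈ P'), (∀ y : P', s⁻¹ * (y : Ω) * s ∈ P) →
      (∀ x : P, φ' ⟨s * (x : Ω) * s⁻¹, hP' x⟩ = s * φ x * s⁻¹) → Star F p P' φ'

/-- [SB3] the inverse of a Star map (from its image `Q`) is a Star map -/
def StarInv : Prop := ∀ (Ω : Type u) [Group Ω] (S : Subgroup Ω) (F : FusionSystem S) (p : ℕ)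
  (P Q : Subgroup Ω) (φ : P →* Ω) (ψ : Q →* Ω), Star F p P φ →
    ∀ (h : ∀ x : P, φ x ∈ Q), (∀ x : P, ψ ⟨φ x, h x⟩ = (x : Ω)) →
      (∀ y : Q, ∃ x : P, φ x = (y : Ω)) → Star F p Q ψ

/-- [SM] Star maps of a subsystem are Star maps -/
def StarMono : Prop := ∀ (Ω : Type u) [Group Ω] (S U : Subgroup Ω) (F : FusionSystem S)
  (E : FusionSystem U) (p : ℕ), U ≤ S → E.IsSubsystemOf F →
    ∀ (P : Subgroup Ω) (φ : P →* Ω), Star E p P φ → Star F p P φ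

/-- [SR] a Star map of `E ≤ F`, restricted to a subgroup `Q` of its source that is invariant
under all maps of `E` whose source contains `Q`, is an element of `O^p(Aut_F(Q))` -/
def StarRes : Prop := ∀ (Ω : Type u) [Group Ω] (S U : Subgroup Ω) [Finite S] (F : FusionSystem S)
  (E : FusionSystem U) (p : ℕ), U ≤ S → E.IsSubsystemOf F → ∀ Q : Subgroup Ω, Q ≤ U →
    (∀ (R : Subgroup Ω) (φ : R →* Ω), φ ∈ E.Hom R → Q ≤ R → ∀ x : R, (x : Ω) ∈ Q → φ x ∈ Q) →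
    ∀ (M : Subgroup Ω) (ψ : M →* Ω), Star E p M ψ → Q ≤ M →
      ∃ n : F.autGroup Q, n ∈ pResidual p (F.autGroup Q) ∧
        ∀ (x : Q) (hx : (x : Ω) ∈ M), ψ ⟨x, hx⟩ = (((n : MulAut Q) x : Q) : Ω)

/-! ### decomposition, the system, `p`-power index -/

/-- [KL1] every map of a saturated system is `c_s ∘ Star` -/
def KeyDec : Prop := ∀ (Ω : Type u) [Group Ω] (S : Subgroup Ω) [Finite S] (p : ℕ) [Fact p.Prime],
  IsPGroup p S → ∀ F : FusionSystem S, F.IsSaturated p →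
    ∀ (P : Subgroup Ω) (φ : P →* Ω), φ ∈ F.Hom P → ∃ s : S, Dec F p φ s

/-- [DINV] `δ` is constant on `F`-classes of elements -/
def DegInv : Prop := ∀ (Ω : Type u) [Group Ω] (S : Subgroup Ω) [Finite S] (p : ℕ) [Fact p.Prime],
  IsPGroup p S → ∀ F : FusionSystem S, F.IsSaturated p → ∀ (A : Type v) [Group A] (δ : S →* A)
    (T : Subgroup Ω), DD F p δ T → ∀ (P : Subgroup Ω) (φ : P →* Ω) (hφ : φ ∈ F.Hom P) (x : P),
      δ ⟨φ x, (F.le_of_mem hφ).2 x⟩ = δ ⟨x, (F.le_of_mem hφ).1 x.2⟩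

/-- [SYS] the system of the maps `c_t ∘ Star`, `t ∈ U` -/
def SysExists : Prop := ∀ (Ω : Type u) [Group Ω] (S : Subgroup Ω) (F : FusionSystem S) (p : ℕ)
  (U : Subgroup Ω), U ≤ S → F.hyperfocalSubgroup p ≤ U → ∃ E : FusionSystem U, PSysSpec F p U E

/-- [PPI] it has `p`-power index -/
def SysPPI : Prop := ∀ (Ω : Type u) [Group Ω] (S : Subgroup Ω) (F : FusionSystem S) (p : ℕ)
  (U : Subgroup Ω), U ≤ S → F.hyperfocalSubgroup p ≤ U → ∀ E : FusionSystem U,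
    PSysSpec F p U E → E.HasPPowerIndexIn F p

/-! ### rigidity -/

/-- [RC] rigidity passes along a map of `F` from `P` onto `Q` -/
def RigidConj : Prop := ∀ (Ω : Type u) [Group Ω] (S : Subgroup Ω) [Finite S] (p : ℕ)
  [Fact p.Prime], IsPGroup p S → ∀ F : FusionSystem S, F.IsSaturated p → ∀ (A : Type v) [Group A]
    (δ : S →* A) (P Q : Subgroup Ω) (φ : P →* Ω), φ ∈ F.Hom P → (∀ x : P, φ x ∈ Q) →
      (∀ y : Q, ∃ x : P, φ x = (y : Ω)) → Rigid F p δ P → Rigid F p δ Q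

/-- [RD] on a rigid subgroup the degree `δ s` of `φ = c_s ∘ Star` is well defined -/
def RigidDeg : Prop := ∀ (Ω : Type u) [Group Ω] (S : Subgroup Ω) [Finite S] (p : ℕ)
  [Fact p.Prime], IsPGroup p S → ∀ F : FusionSystem S, F.IsSaturated p → ∀ (A : Type v) [Group A]
    (δ : S →* A) (P : Subgroup Ω) (φ : P →* Ω) (s s' : S), Rigid F p δ P →
      Dec F p φ s → Dec F p φ s' → δ s = δ s'

/-! ### the local degree -/

/-- [FOC] (pure group theory, transfer) a homomorphism from a Sylow `p`-subgroup `R` to an abelian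
group that is constant on `G`-fusion classes kills `R ∩ O^p(G)` -/
def FocalKer : Prop := ∀ (G : Type u) [Group G] [Finite G] (p : ℕ) [Fact p.Prime] (R : Sylow p G)
  (A : Type v) [Group A], (∀ a b : A, a * b = b * a) → ∀ f : (R : Subgroup G) →* A,
    (∀ (x y : (R : Subgroup G)) (g : G), (y : G) = g * x * g⁻¹ → f x = f y) →
    ∀ x : (R : Subgroup G), (x : G) ∈ pResidual p G → f x = 1

/-- [LOC] if `c_u|Q` lies in `O^p(Aut_F(Q))` then `δ u = 1` (`Q` fully normalized, `C_S(Q) ≤ T`) -/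
def LocalKer : Prop := ∀ (Ω : Type u) [Group Ω] (S : Subgroup Ω) [Finite S] (p : ℕ)
  [Fact p.Prime], IsPGroup p S → ∀ F : FusionSystem S, F.IsSaturated p → ∀ (A : Type v) [Group A]
    (δ : S →* A) (T : Subgroup Ω), DD F p δ T → ∀ Q : Subgroup Ω, F.IsFullyNormalized Q →
      centralizerIn S Q ≤ T → ∀ (u : S) (n : F.autGroup Q), n ∈ pResidual p (F.autGroup Q) →
        (∀ x : Q, (((n : MulAut Q) x : Q) : Ω) = (u : Ω) * (x : Ω) * (u : Ω)⁻¹) → δ u = 1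

/-- [LB] every `F`-automorphism of a fully normalized `Q` has a local degree -/
def LDegEx : Prop := ∀ (Ω : Type u) [Group Ω] (S : Subgroup Ω) [Finite S] (p : ℕ)
  [Fact p.Prime], IsPGroup p S → ∀ F : FusionSystem S, F.IsSaturated p → ∀ (A : Type v) [Group A]
    (δ : S →* A) (Q : Subgroup Ω), F.IsFullyNormalized Q → ∀ γ ∈ F.autGroup Q,
      ∃ a : A, LDeg F p δ Q γ a

/-- [LB] multiplicativity -/
def LDegMul : Prop := ∀ (Ω : Type u) [Group Ω] (S : Subgroup Ω) (F : FusionSystem S) (p : ℕ)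
  (A : Type v) [Group A] (δ : S →* A) (Q : Subgroup Ω), Q ≤ S → ∀ (γ γ' : MulAut Q) (a b : A),
    LDeg F p δ Q γ a → LDeg F p δ Q γ' b → LDeg F p δ Q (γ * γ') (a * b)

/-- [LB] elements of `O^p(Aut_F(Q))` have local degree `1` -/
def LDegRes : Prop := ∀ (Ω : Type u) [Group Ω] (S : Subgroup Ω) (F : FusionSystem S) (p : ℕ)
  (A : Type v) [Group A] (δ : S →* A) (Q : Subgroup Ω), Q ≤ S → ∀ n : F.autGroup Q,
    n ∈ pResidual p (F.autGroup Q) → LDeg F p δ Q (n : MulAut Q) 1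

/-- [LU] the local degree is unique -/
def LDegUniq : Prop := ∀ (Ω : Type u) [Group Ω] (S : Subgroup Ω) [Finite S] (p : ℕ)
  [Fact p.Prime], IsPGroup p S → ∀ F : FusionSystem S, F.IsSaturated p → ∀ (A : Type v) [Group A]
    (δ : S →* A) (T : Subgroup Ω), DD F p δ T → ∀ Q : Subgroup Ω, F.IsFullyNormalized Q →
      centralizerIn S Q ≤ T → ∀ (γ : MulAut Q) (a b : A),
        LDeg F p δ Q γ a → LDeg F p δ Q γ b → a = b

/-- [CL] compatibility: if `γ ∈ Aut_F(Q)` extends to a map `φ` of `F` on a rigid `M` with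
`Q ≤ M ≤ N_T(Q)`, and `φ = c_s ∘ Star`, then `γ` has local degree `δ s` -/
def Compat : Prop := ∀ (Ω : Type u) [Group Ω] (S : Subgroup Ω) [Finite S] (p : ℕ)
  [Fact p.Prime], IsPGroup p S → ∀ F : FusionSystem S, F.IsSaturated p → ∀ (A : Type v) [Group A]
    (δ : S →* A) (T : Subgroup Ω), DD F p δ T → ∀ (Q M : Subgroup Ω), F.IsFullyNormalized Q →
      Q ≤ M → M ≤ T → (∀ m ∈ M, m ∈ Subgroup.normalizer (Q : Set Ω)) → Rigid F p δ M →
      ∀ φ : M →* Ω, φ ∈ F.Hom M → (∀ x : M, (x : Ω) ∈ Q → φ x ∈ Q) →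
      ∀ γ : MulAut Q, (∀ (x : Q) (hx : (x : Ω) ∈ M), ((γ x : Q) : Ω) = φ ⟨x, hx⟩) →
      ∀ s : S, Dec F p φ s → LDeg F p δ Q γ (δ s)

/-! ### telescoping -/

/-- [TB] base case of the telescoping: one restricted element `β` of `O^p(Aut_F(R))`.
`χ', χ''` are maps of `F` on `N_T(P')`, `N_T(P'')` carrying `P'`, `P'' = β(P')` onto `Q`, of
degrees `δ s'`, `δ s''`; `γ = χ'' β χ'⁻¹` on `Q`. -/
def TelBase : Prop := ∀ (Ω : Type u) [Group Ω] (S : Subgroup Ω) [Finite S] (p : ℕ)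
  [Fact p.Prime], IsPGroup p S → ∀ F : FusionSystem S, F.IsSaturated p → ∀ (A : Type v) [Group A]
    (δ : S →* A) (T : Subgroup Ω), DD F p δ T → ∀ Q : Subgroup Ω, F.IsFullyNormalized Q →
      Q ≤ T → Nat.card Q < Nat.card T →
      (∀ M : Subgroup Ω, M ≤ T → Q ≤ M → Nat.card Q < Nat.card M → Rigid F p δ M) →
      ∀ (R : Subgroup Ω), R ≤ S → ∀ β : F.autGroup R, β ∈ pResidual p (F.autGroup R) →
      ∀ (P' P'' : Subgroup Ω), P' ≤ R → P' ≤ T →
        (∀ x : R, (x : Ω) ∈ P' → (((β : MulAut R) x : R) : Ω) ∈ P'') →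
        Nat.card P' = Nat.card Q → Nat.card P'' = Nat.card Q →
      ∀ (χ' : ↥(normalizerIn T P') →* Ω) (χ'' : ↥(normalizerIn T P'') →* Ω) (s' s'' : S),
        χ' ∈ F.Hom (normalizerIn T P') → χ'' ∈ F.Hom (normalizerIn T P'') →
        Dec F p χ' s' → Dec F p χ'' s'' →
        (∀ x : ↥(normalizerIn T P'), (x : Ω) ∈ P' → χ' x ∈ Q) →
        (∀ x : ↥(normalizerIn T P''), (x : Ω) ∈ P'' → χ'' x ∈ Q) →
      ∀ γ : MulAut Q,
        (∀ (x : R) (_ : (x : Ω) ∈ P') (hxN : (x : Ω) ∈ normalizerIn T P')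
          (hq : χ' ⟨x, hxN⟩ ∈ Q)
          (hx'' : (((β : MulAut R) x : R) : Ω) ∈ normalizerIn T P''),
          ((γ ⟨χ' ⟨x, hxN⟩, hq⟩ : Q) : Ω) = χ'' ⟨((β : MulAut R) x : R), hx''⟩) →
        LDeg F p δ Q γ (δ s'' * (δ s')⁻¹)

/-- [TI] telescoping along a Star map `ψ` on `P₀ ≥ P'` -/
def Tel : Prop := ∀ (Ω : Type u) [Group Ω] (S : Subgroup Ω) [Finite S] (p : ℕ)
  [Fact p.Prime], IsPGroup p S → ∀ F : FusionSystem S, F.IsSaturated p → ∀ (A : Type v) [Group A]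
    (δ : S →* A) (T : Subgroup Ω), DD F p δ T → ∀ Q : Subgroup Ω, F.IsFullyNormalized Q →
      Q ≤ T → Nat.card Q < Nat.card T →
      (∀ M : Subgroup Ω, M ≤ T → Q ≤ M → Nat.card Q < Nat.card M → Rigid F p δ M) →
      ∀ (P₀ : Subgroup Ω) (ψ : P₀ →* Ω), Star F p P₀ ψ →
      ∀ (P' P'' : Subgroup Ω), P' ≤ P₀ → P' ≤ T →
        (∀ x : P₀, (x : Ω) ∈ P' → ψ x ∈ P'') →
        Nat.card P' = Nat.card Q → Nat.card P'' = Nat.card Q →
      ∀ (χ' : ↥(normalizerIn T P') →* Ω) (χ'' : ↥(normalizerIn T P'') →* Ω) (s' s'' : S),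
        χ' ∈ F.Hom (normalizerIn T P') → χ'' ∈ F.Hom (normalizerIn T P'') →
        Dec F p χ' s' → Dec F p χ'' s'' →
        (∀ x : ↥(normalizerIn T P'), (x : Ω) ∈ P' → χ' x ∈ Q) →
        (∀ x : ↥(normalizerIn T P''), (x : Ω) ∈ P'' → χ'' x ∈ Q) →
      ∀ γ : MulAut Q,
        (∀ (x : P₀) (_ : (x : Ω) ∈ P') (hxN : (x : Ω) ∈ normalizerIn T P')
          (hq : χ' ⟨x, hxN⟩ ∈ Q) (hx'' : ψ x ∈ normalizerIn T P''),
          ((γ ⟨χ' ⟨x, hxN⟩, hq⟩ : Q) : Ω) = χ'' ⟨ψ x, hx''⟩) →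
        LDeg F p δ Q γ (δ s'' * (δ s')⁻¹)

/-- [RS] rigidity of `Q < T` from the telescoping -/
def RigidStep : Prop := ∀ (Ω : Type u) [Group Ω] (S : Subgroup Ω) [Finite S] (p : ℕ)
  [Fact p.Prime], IsPGroup p S → ∀ F : FusionSystem S, F.IsSaturated p → ∀ (A : Type v) [Group A]
    (δ : S →* A) (T : Subgroup Ω), DD F p δ T → ∀ Q : Subgroup Ω, F.IsFullyNormalized Q →
      Q ≤ T → Nat.card Q < Nat.card T → centralizerIn S Q ≤ T →
      (∀ M : Subgroup Ω, M ≤ T → Q ≤ M → Nat.card Q < Nat.card M → Rigid F p δ M) →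
      Rigid F p δ Q

/-- [RT] `T` itself is rigid when `C_S(T) ≤ T` -/
def RigidTop : Prop := ∀ (Ω : Type u) [Group Ω] (S : Subgroup Ω) [Finite S] (p : ℕ)
  [Fact p.Prime], IsPGroup p S → ∀ F : FusionSystem S, F.IsSaturated p → ∀ (A : Type v) [Group A]
    (δ : S →* A) (T : Subgroup Ω), DD F p δ T → centralizerIn S T ≤ T → Rigid F p δ T

/-- [HB] from the induction hypothesis to all bigger subgroups of `T` containing `Q` -/
def BigRigid : Prop := ∀ (Ω : Type u) [Group Ω] (S : Subgroup Ω) [Finite S] (p : ℕ)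
  [Fact p.Prime], IsPGroup p S → ∀ F : FusionSystem S, F.IsSaturated p → ∀ (A : Type v) [Group A]
    (δ : S →* A) (T : Subgroup Ω), DD F p δ T → ∀ Q : Subgroup Ω, F.IsFullyNormalized Q →
      Q ≤ T → centralizerIn S Q ≤ T →
      (∀ Q' : Subgroup Ω, F.IsFullyNormalized Q' → Q' ≤ T → centralizerIn S Q' ≤ T →
        Nat.card Q < Nat.card Q' → Rigid F p δ Q') →
      ∀ M : Subgroup Ω, M ≤ T → Q ≤ M → Nat.card Q < Nat.card M → Rigid F p δ M

/-! ### saturation of the system over `T` (index `p`) -/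

/-- [FNC] an `S`-conjugate of a fully normalized subgroup is fully normalized -/
def FNConj : Prop := ∀ (Ω : Type u) [Group Ω] (S : Subgroup Ω) [Finite S] (F : FusionSystem S)
  (Q Q' : Subgroup Ω) (s : Ω), s ∈ S → F.IsFullyNormalized Q →
    (∀ x : Ω, x ∈ Q' ↔ s⁻¹ * x * s ∈ Q) → F.IsFullyNormalized Q'

/-- [SFA] -/
def SatFA : Prop := ∀ (Ω : Type u) [Group Ω] (S : Subgroup Ω) [Finite S] (p : ℕ)
  [Fact p.Prime], IsPGroup p S → ∀ F : FusionSystem S, F.IsSaturated p → ∀ (A : Type v) [Group A]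
    (δ : S →* A) (T : Subgroup Ω), DD F p δ T →
    (∀ v s : S, δ v ≠ 1 → ∃ k : ℕ, δ s = δ v ^ k) →
    (∀ Q : Subgroup Ω, F.IsFullyNormalized Q → Q ≤ T → centralizerIn S Q ≤ T → Rigid F p δ Q) →
    ∀ E : FusionSystem T, PSysSpec F p T E → ∀ Q : Subgroup Ω, Q ≤ T → F.IsFullyNormalized Q →
      E.IsFullyAutomized p Q

/-- [SRC] -/
def SatRec : Prop := ∀ (Ω : Type u) [Group Ω] (S : Subgroup Ω) [Finite S] (p : ℕ)
  [Fact p.Prime], IsPGroup p S → ∀ F : FusionSystem S, F.IsSaturated p → ∀ (A : Type v) [Group A]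
    (δ : S →* A) (T : Subgroup Ω), DD F p δ T →
    (∀ v s : S, δ v ≠ 1 → ∃ k : ℕ, δ s = δ v ^ k) →
    (∀ Q : Subgroup Ω, F.IsFullyNormalized Q → Q ≤ T → centralizerIn S Q ≤ T → Rigid F p δ Q) →
    ∀ E : FusionSystem T, PSysSpec F p T E → ∀ Q : Subgroup Ω, Q ≤ T → F.IsFullyNormalized Q →
      E.IsReceptive Q

/-- [SAT] -/
def SatMain : Prop := ∀ (Ω : Type u) [Group Ω] (S : Subgroup Ω) [Finite S] (p : ℕ)
  [Fact p.Prime], IsPGroup p S → ∀ F : FusionSystem S, F.IsSaturated p → ∀ (A : Type v) [Group A]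
    (δ : S →* A) (T : Subgroup Ω), DD F p δ T →
    (∀ v s : S, δ v ≠ 1 → ∃ k : ℕ, δ s = δ v ^ k) →
    (∀ Q : Subgroup Ω, F.IsFullyNormalized Q → Q ≤ T → centralizerIn S Q ≤ T → Rigid F p δ Q) →
    ∀ E : FusionSystem T, PSysSpec F p T E → E.IsSaturated p

/-! ### group theory and bookkeeping for the reduction to index `p` -/

/-- [QUO] -/
def QuoData : Prop := ∀ (Ω : Type u) [Group Ω] (S T : Subgroup Ω) [Finite S] (p : ℕ)
  [Fact p.Prime], IsPGroup p S → T ≤ S → (∀ s ∈ S, ∀ t ∈ T, s * t * s⁻¹ ∈ T) →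
    Nat.card S = p * Nat.card T →
    ∃ (A : Type u) (_ : Group A) (δ : S →* A), (∀ a b : A, a * b = b * a) ∧
      (∀ s : S, δ s = 1 ↔ (s : Ω) ∈ T) ∧ (∀ v s : S, δ v ≠ 1 → ∃ k : ℕ, δ s = δ v ^ k)

/-- [MAX] -/
def MaxSub : Prop := ∀ (Ω : Type u) [Group Ω] (S T : Subgroup Ω) [Finite S] (p : ℕ)
  [Fact p.Prime], IsPGroup p S → T ≤ S → T ≠ S →
    ∃ T₁ : Subgroup Ω, T ≤ T₁ ∧ T₁ ≤ S ∧ (∀ s ∈ S, ∀ t ∈ T₁, s * t * s⁻¹ ∈ T₁) ∧
      Nat.card S = p * Nat.card T₁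

/-- [HM] -/
def HypMono : Prop := ∀ (Ω : Type u) [Group Ω] (S U : Subgroup Ω) (F : FusionSystem S)
  (E : FusionSystem U) (p : ℕ), U ≤ S → E.IsSubsystemOf F →
    E.hyperfocalSubgroup p ≤ F.hyperfocalSubgroup p

/-- [TR] -/
def PPITrans : Prop := ∀ (Ω : Type u) [Group Ω] (S U T : Subgroup Ω) (F : FusionSystem S)
  (F₁ : FusionSystem U) (E : FusionSystem T) (p : ℕ), T ≤ U → U ≤ S →
    F₁.HasPPowerIndexIn F p → E.HasPPowerIndexIn F₁ p → F.hyperfocalSubgroup p ≤ T →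
    E.HasPPowerIndexIn F p

end Cfsg.Agent.Lib.Helper85.PPStmt
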