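import Mathlib
import Cfsg.Agent.Lib.Helper16.BRStmt

/-! Piece [LOC] of S0999 / S4701: local structure of a perfect group with a Sylow `p`-subgroup
of order `p`. -/

set_option autoImplicit false

namespace Cfsg.Agent.Lib.Helper85.BRLoc

universe u

theorem relIndex_dvd_pred {G : Type u} [Group G] [Finite G] (p : ℕ) [Fact p.Prime] (P : Sylow p G)
    (hP : Nat.card (P : Subgroup G) = p) :
    (Subgroup.centralizer ((P : Subgroup G) : Set G)).relIndex
      (Subgroup.normalizer ((P : Subgroup G) : Set G)) ∣ p - 1 := by
  have key := Subgroup.card_dvd_of_injective _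
    (QuotientGroup.kerLift_injective (P : Subgroup G).normalizerMonoidHom)
  rw [Subgroup.normalizerMonoidHom_ker, ← Subgroup.index, ← Subgroup.relIndex] at key
  haveI hcyc : IsCyclic (P : Subgroup G) := isCyclic_of_prime_card hP
  rw [IsCyclic.card_mulAut (↥(P : Subgroup G)), hP, Nat.totient_prime Fact.out] at key
  exact key

theorem not_normalizer_le {G : Type u} [Group G] [Finite G] (hperf : commutator G = ⊤) (p : ℕ)
    [Fact p.Prime] (P : Sylow p G) (hP : Nat.card (P : Subgroup G) = p) :
    ¬ Subgroup.normalizer ((P : Subgroup G) : Set G) ≤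
      Subgroup.centralizer ((P : Subgroup G) : Set G) := by
  intro hle
  have hcompl := MonoidHom.ker_transferSylow_isComplement' P hle
  have hker : (MonoidHom.transferSylow P hle).ker = ⊤ := by
    rw [eq_top_iff, ← hperf, commutator_def, Subgroup.commutator_le]
    intro a _ b _
    rw [MonoidHom.mem_ker, map_commutatorElement, commutatorElement_eq_one_iff_commute]
    apply Subtype.ext
    exact hle (Subgroup.le_normalizer ((MonoidHom.transferSylow P hle) b).2)
      ((MonoidHom.transferSylow P hle) a) ((MonoidHom.transferSylow P hle) a).2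
  have h1 := hcompl.card_mul_card
  rw [hker, Subgroup.card_top, hP] at h1
  have hpos : 0 < Nat.card G := Nat.card_pos
  have hp2 := (Fact.out : p.Prime).two_le
  nlinarith

theorem main : Cfsg.Agent.Lib.Helper16.BRStmt.Loc.{u} := by
  intro G _ _ hperf p _ P hP
  have hdvd := relIndex_dvd_pred p P hP
  have hnle := not_normalizer_le hperf p P hP
  have he1 : (Subgroup.centralizer ((P : Subgroup G) : Set G)).relIndex
      (Subgroup.normalizer ((P : Subgroup G) : Set G)) ≠ 1 :=
    fun h => hnle (Subgroup.relIndex_eq_one.mp h)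
  have hp2 := (Fact.out : p.Prime).two_le
  have he0 : (Subgroup.centralizer ((P : Subgroup G) : Set G)).relIndex
      (Subgroup.normalizer ((P : Subgroup G) : Set G)) ≠ 0 := by
    intro h
    rw [h] at hdvd
    have := Nat.eq_zero_of_zero_dvd hdvd
    omega
  have he2 : 2 ≤ (Subgroup.centralizer ((P : Subgroup G) : Set G)).relIndex
      (Subgroup.normalizer ((P : Subgroup G) : Set G)) := by omega
  have hp3 : 3 ≤ p := by
    have := Nat.le_of_dvd (by omega) hdvd
    omega
  have hnn : ¬ (P : Subgroup G).Normal := by
    intro hn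
    apply hnle
    haveI := hn
    haveI hcyc : IsCyclic (P : Subgroup G) := isCyclic_of_prime_card hP
    let _ := (IsCyclic.mulAutMulEquiv (↥(P : Subgroup G))).toMonoidHom.commGroupOfInjective
      (IsCyclic.mulAutMulEquiv (↥(P : Subgroup G))).injective
    have h := Abelianization.commutator_subset_ker
      (MulAut.conjNormal : G →* MulAut (P : Subgroup G))
    rw [hperf] at h
    intro g _
    have hg : g ∈ (MulAut.conjNormal : G →* MulAut (P : Subgroup G)).ker := h (Subgroup.mem_top g)
    rw [MonoidHom.mem_ker] at hg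
    rw [Subgroup.mem_centralizer_iff]
    intro x hx
    have h2 : ((MulAut.conjNormal g (⟨x, hx⟩ : (P : Subgroup G)) : (P : Subgroup G)) : G) = x := by
      rw [hg]; rfl
    rw [MulAut.conjNormal_apply] at h2
    calc x * g = g * x * g⁻¹ * g := by rw [h2]
      _ = g * x := by group
  refine ⟨hp3, hnn, he2, hdvd, ?_⟩
  have hcard : Nat.card (Sylow p G) = (Subgroup.normalizer ((P : Subgroup G) : Set G)).index :=
    Sylow.card_eq_index_normalizer P
  have hmod : Nat.card (Sylow p G) ≡ 1 [MOD p] := card_sylow_modEq_one p G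
  rw [hcard] at hmod
  have hne1 : (Subgroup.normalizer ((P : Subgroup G) : Set G)).index ≠ 1 := by
    intro h
    apply hnn
    rw [Subgroup.index_eq_one] at h
    exact Subgroup.normalizer_eq_top_iff.mp h
  have hne0 : (Subgroup.normalizer ((P : Subgroup G) : Set G)).index ≠ 0 :=
    Subgroup.index_ne_zero_of_finite
  have hdv : p ∣ (Subgroup.normalizer ((P : Subgroup G) : Set G)).index - 1 :=
    (Nat.modEq_iff_dvd' (by omega)).mp hmod.symm
  obtain ⟨n, hn⟩ := hdv
  refine ⟨n, ?_, ?_⟩
  · rcases Nat.eq_zero_or_pos n with h | h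
    · rw [h, mul_zero] at hn; omega
    · exact h
  · rw [mul_comm] at hn; omega

end Cfsg.Agent.Lib.Helper85.BRLoc
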