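import Mathlib
import Cfsg.Agent.Lib.Helper16.BRStmt

/-! Piece [ARITHC] of S0999 / S4701: the arithmetic of the degree of the exceptional characters. -/

set_option autoImplicit false

namespace Cfsg.Agent.Lib.Helper85.BRArithC

theorem main : Cfsg.Agent.Lib.Helper16.BRStmt.ArithCase := by
  intro p e t n a b f δ hp hpe he ht hn hlt hab hb hδ hf hdvd hmod hdeg
  have hp2 : 2 ≤ p := hp.two_le
  have hep : e < p := by nlinarith
  obtain ⟨g, hg⟩ := hdvd
  have hgpos : 0 < g := by
    rcases Nat.eq_zero_or_pos g with h | h
    · rw [h, mul_zero] at hg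
      have : 0 < e * (1 + n * p) := Nat.mul_pos (by omega) (by omega)
      omega
    · exact h
  obtain ⟨c, hc⟩ := Int.modEq_iff_dvd.mp hmod
  have hpZ : (p : ℤ) = e * t + 1 := by exact_mod_cast hpe
  have hgZ : (e : ℤ) * (1 + n * p) = f * g := by exact_mod_cast hg
  have hltZ : (e : ℤ) * (1 + n * p) < p ^ 2 := by exact_mod_cast hlt
  have habZ : (a : ℤ) + b + 1 = e := by exact_mod_cast hab
  have hfZ : (0 : ℤ) < f := by exact_mod_cast hf
  have hgposZ : (1 : ℤ) ≤ g := by exact_mod_cast hgpos
  have heZ : (2 : ℤ) ≤ e := by exact_mod_cast he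
  have hnZ : (1 : ℤ) ≤ n := by exact_mod_cast hn
  have hepZ : (e : ℤ) < p := by exact_mod_cast hep
  have haZ : (0 : ℤ) ≤ a := Int.natCast_nonneg a
  have hbZ : (0 : ℤ) ≤ b := Int.natCast_nonneg b
  have hpZ2 : (2 : ℤ) ≤ p := by exact_mod_cast hp2
  have hpne : (p : ℤ) ≠ 0 := by omega
  rcases hδ with rfl | rfl
  · -- `δ = 1`
    rw [one_mul] at hc hdeg
    have hc0 : c ≤ 0 := by
      by_contra hcon
      push Not at hcon
      nlinarith
    by_cases hk : c = 0
    · have hfe : (f : ℤ) = e := by rw [hk, mul_zero] at hc; linarith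
      have hban : (b : ℤ) = a * n := by
        have h1 : (p : ℤ) * (b - a * n) = 0 := by
          linear_combination hdeg - hfe + habZ
        have h2 := (mul_eq_zero.mp h1).resolve_left hpne
        linarith
      have hban' : b = a * n := by exact_mod_cast hban
      have hb1 : 1 ≤ b := by
        rcases Nat.eq_zero_or_pos b with h | h
        · rw [h] at hban'
          rcases Nat.mul_eq_zero.mp hban'.symm with h' | h'
          · omega
          · omega
        · exact h
      have hnt := hb hb1
      refine ⟨hnt, Or.inl ⟨rfl, by exact_mod_cast hfe, hban', ?_⟩⟩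
      rw [← hnt, Nat.mul_succ]
      omega
    · have hc1 : c ≤ -1 := by omega
      exfalso
      have hfge : (e : ℤ) + p ≤ f := by nlinarith
      have hdv : p ∣ e * (g - 1) := by
        have : (p : ℤ) ∣ ((e * (g - 1) : ℕ) : ℤ) := by
          refine ⟨e * n + c * g, ?_⟩
          push_cast [Nat.cast_sub hgpos]
          linear_combination (-1 : ℤ) * hgZ + (g : ℤ) * hc
        exact_mod_cast this
      rcases (Nat.Prime.dvd_mul hp).mp hdv with h | h
      · exact absurd (Nat.le_of_dvd (by omega) h) (by omega)
      · rcases Nat.eq_zero_or_pos (g - 1) with h0 | h0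
        · have hg1 : g = 1 := by omega
          rw [hg1, ← habZ] at hgZ
          push_cast at hgZ
          have h1 : (0 : ℤ) ≤ b * n * p := by positivity
          have h2 : (2 : ℤ) ≤ n * p := by nlinarith
          have h3 : (0 : ℤ) ≤ b * p := by positivity
          nlinarith
        · have hgp : p ≤ g - 1 := Nat.le_of_dvd h0 h
          have hgpZ : (p : ℤ) + 1 ≤ g := by
            have : p + 1 ≤ g := by omega
            exact_mod_cast this
          have h1 : ((e : ℤ) + p) * (p + 1) ≤ f * g := by
            calc ((e : ℤ) + p) * (p + 1) ≤ f * (p + 1) := by nlinarith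
              _ ≤ f * g := by nlinarith
          nlinarith [mul_pos (by linarith : (0 : ℤ) < e) (by linarith : (0 : ℤ) < p)]
  · -- `δ = -1`
    have hb1 : 1 ≤ b := by
      by_contra hcon
      have hb0 : b = 0 := by omega
      rw [hb0] at hdeg
      push_cast at hdeg
      have : (0 : ℤ) ≤ a * (1 + n * p) := by positivity
      linarith
    have hnt := hb hb1
    have hntZ : (n : ℤ) + 1 = t := by exact_mod_cast hnt
    have hpe' : (p : ℤ) = e * (n + 1) + 1 := by rw [hntZ]; exact hpZ
    have hev : (e : ℤ) * (1 + n * p) = (p - 1) * (p - e) := by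
      linear_combination (-(p : ℤ)) * hpe'
    have hc1 : c ≤ -1 := by
      by_contra hcon
      push Not at hcon
      have hc0 : 0 ≤ c := by omega
      have : (0 : ℤ) ≤ p * c := mul_nonneg (by linarith) hc0
      linarith
    have hdv : p ∣ e * (g + 1) := by
      have : (p : ℤ) ∣ ((e * (g + 1) : ℕ) : ℤ) := by
        refine ⟨-c * g - p + e + 1, ?_⟩
        push_cast
        linear_combination hgZ - hev - (g : ℤ) * hc
      exact_mod_cast this
    rcases (Nat.Prime.dvd_mul hp).mp hdv with h | h
    · exact absurd (Nat.le_of_dvd (by omega) h) (by omega)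
    · have hgp : p ≤ g + 1 := Nat.le_of_dvd (by omega) h
      have hgpZ : (p : ℤ) - 1 ≤ g := by
        have : (p : ℤ) ≤ g + 1 := by exact_mod_cast hgp
        linarith
      have hc' : c = -1 := by
        by_contra hcon
        have hc2 : c ≤ -2 := by omega
        have hf2 : 2 * (p : ℤ) - e ≤ f := by nlinarith
        have h1 : (2 * (p : ℤ) - e) * (p - 1) ≤ f * g := by
          calc (2 * (p : ℤ) - e) * (p - 1) ≤ f * (p - 1) := by nlinarith
            _ ≤ f * g := by nlinarith
        nlinarith [mul_pos (by linarith : (0 : ℤ) < p) (by linarith : (0 : ℤ) < (p : ℤ) - 1)]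
      have hfpe : (f : ℤ) = p - e := by rw [hc'] at hc; linarith
      have hban : (b : ℤ) = a * n + 1 := by
        have h1 : (p : ℤ) * (b - a * n - 1) = 0 := by
          linear_combination hdeg + hfpe + habZ
        have h2 := (mul_eq_zero.mp h1).resolve_left hpne
        linarith
      have hban' : b = a * n + 1 := by exact_mod_cast hban
      have hfe : f + e = p := by
        have : (f : ℤ) + e = p := by linarith
        exact_mod_cast this
      refine ⟨hnt, Or.inr ⟨rfl, hfe, hban', ?_⟩⟩
      rw [← hnt, Nat.mul_succ]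
      omega

end Cfsg.Agent.Lib.Helper85.BRArithC
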