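import Mathlib
import Cfsg.Prelude.Def_FusionSystem
import Cfsg.Prelude.Def_FusionComponents
import Cfsg.Agent.H85.Basic
import Cfsg.Agent.H85.Aut
import Cfsg.Agent.Lib.Helper88.FCStmt
import Cfsg.Agent.Lib.Helper88.CEStmt

/-! Statements of the pieces for S5127 (strong closure part, `CEStmt.LargestClosed`): for `E`
normal in the saturated `F` over `T`, the largest subgroup `C` of `C₀ = C_S(T)` centralizing `E`
is strongly closed in `F`.

Plan. By Alperin induction (`Helper87.FSAlperin.alperin_induction`, piece ALP) it suffices to show: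
if `Y` is fully automized and receptive and all maps of `F` on subgroups of larger order map
elements of `C` into `C` (`IH`), then every `α ∈ Aut_F(Y)` maps `Y ∩ C` into `C` (`Pres`).
* `C_S(Y) ≰ Y`: `α` extends to `Y C_S(Y)` (NONCEN).
* `T ≤ Y`: transport of `E`-centrality along maps defined on `T X` (TRANS, CNORM).
* some `g ∈ N_S(Y) ∖ Y` acts trivially on `Y ∩ T` and on `Y` modulo `T`: such automorphisms form
  a normal `p`-subgroup of `Aut_F(Y)`, so every `α` extends to a larger subgroup (STABP, STABEXT).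
* otherwise `P = Y ∩ T` is `E`-centric (STABINN, CENT, ECEN1, STABTR, ECENB, ECEN), `J(P)` holds
  (`CEStmt.JAll`), and with `A_E = {α ∈ Aut_F(Y) : [Y, α] ≤ T, α|P ∈ Aut_E(P)}` (normal, AENORMAL):
  `Aut_F(Y) = A_E N(Aut_S(Y) ∩ A_E)` (Frattini), `A_E` is generated by `Aut_S(Y) ∩ A_E` and its
  `p'`-elements (GEN); `Aut_S(Y)` preserves `C` (SAUT), the `p'`-elements of `A_E` fix `Y ∩ C`
  elementwise (UFIXG, PPRIME), and the normalizer of `Aut_S(Y) ∩ A_E` extends to a larger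
  subgroup because some `t ∈ N_T(Y) ∖ Y` exists (NEXT). -/

set_option autoImplicit false

namespace Cfsg.Agent.Lib.Helper85.SCStmt

open Cfsg Cfsg.FusionSystem Cfsg.Agent.Lib.Helper88.FCStmt Cfsg.Agent.Lib.Helper88.CEStmt

universe u

variable {Ω : Type*} [Group Ω] {S : Subgroup Ω}

/-- `α` maps the elements of `Y` lying in `C` into `C`. -/
def Pres (C Y : Subgroup Ω) (α : MulAut Y) : Prop :=
  ∀ x : Y, (x : Ω) ∈ C → ((α x : Y) : Ω) ∈ C

/-- the induction hypothesis: maps of `F` on subgroups of order `> n` map elements of `C` into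
`C`. -/
def IH (F : FusionSystem S) (C : Subgroup Ω) (n : ℕ) : Prop :=
  ∀ R : Subgroup Ω, n < Nat.card R → ∀ φ ∈ F.Hom R, ∀ x : R, (x : Ω) ∈ C → φ x ∈ C

/-- `β` is trivial on `Y ∩ T` and on `Y` modulo `T`. -/
def Stab (T Y : Subgroup Ω) (β : MulAut Y) : Prop :=
  (∀ y : Y, (y : Ω) ∈ T → β y = y) ∧ ∀ y : Y, (y : Ω)⁻¹ * ((β y : Y) : Ω) ∈ T

/-- the element `g` acts on `Y` trivially on `Y ∩ T` and modulo `T`. -/
def StabElt (T Y : Subgroup Ω) (g : Ω) : Prop :=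
  (∀ y ∈ Y, y ∈ T → g * y * g⁻¹ = y) ∧ ∀ y ∈ Y, y⁻¹ * (g * y * g⁻¹) ∈ T

/-- every `β ∈ Aut_F(Y)` trivial on `Y ∩ T` and on `Y` modulo `T` is inner. -/
def StabInn (F : FusionSystem S) (T Y : Subgroup Ω) : Prop :=
  ∀ β ∈ F.autGroup Y, Stab T Y β → ∃ y₀ : Y, ∀ y : Y, β y = y₀ * y * y₀⁻¹

/-- every `β ∈ Aut_F(Y)` trivial on `Y ∩ T` and on `Y` modulo `T` is induced by `N_S(Y)`. -/
def StabInS (F : FusionSystem S) (T Y : Subgroup Ω) : Prop :=
  ∀ β ∈ F.autGroup Y, Stab T Y β → β ∈ autInducedBy S Y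

/-- `α ∈ A_E`: `α` moves every element of `Y` by an element of `T` and restricts to an element
of `Aut_E(Y ∩ T)`. -/
def InAE {T : Subgroup Ω} (E : FusionSystem T) (Y : Subgroup Ω) (α : MulAut Y) : Prop :=
  (∀ y : Y, (y : Ω)⁻¹ * ((α y : Y) : Ω) ∈ T) ∧
    ∃ γ ∈ E.autGroup (Y ⊓ T), ∀ u : ↥(Y ⊓ T),
      ((γ u : ↥(Y ⊓ T)) : Ω) = ((α ⟨u, u.2.1⟩ : Y) : Ω)

/-! ## transport -/

/-- TRANS: if `X ≤ C₀` centralizes `E` and `ψ` is a map of `F` defined on `Q ≥ T, X`, then `ψ(X)`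
lies in `C₀` and centralizes `E`. (`ψ(T) = T`, so `ψ(X)` centralizes `T`. For a map `θ` of `E` on
`P`: with `β = ψ|T ∈ Aut_F(T)`, `θ' = β⁻¹ θ β` is a map of `E` (invariance clause of
`IsInvariantIn`, applied to `β⁻¹`); it extends to `θ^'` on `β⁻¹(P) X` fixing `X`; then
`ψ θ^' ψ⁻¹` on `P ψ(X)` extends `θ` and fixes `ψ(X)`.) -/
def Trans : Prop :=
  ∀ {Ω : Type u} [Group Ω] {S : Subgroup Ω} [Finite S] (p : ℕ) [Fact p.Prime] (_ : IsPGroup p S)
    (F : FusionSystem S) (_ : F.IsSaturated p) {T : Subgroup Ω} (E : FusionSystem T)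
    (_ : E.IsNormalIn F p) (X : Subgroup Ω) (_ : X ≤ centralizerIn S T) (_ : ECentral F E X)
    (Q : Subgroup Ω) (_ : T ≤ Q) (_ : X ≤ Q) (ψ : Q →* Ω) (_ : ψ ∈ F.Hom Q),
    (X.subgroupOf Q).map ψ ≤ centralizerIn S T ∧ ECentral F E ((X.subgroupOf Q).map ψ)

/-- CNORM: maps of `F` defined on a subgroup containing `T` map elements of `C` into `C`.
(`X = Q ⊓ C` centralizes `E` (restrict the extensions given by `ECentral F E C`); TRANS and the
maximality of `C`.) -/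
def CNorm : Prop :=
  Trans.{u} →
  ∀ {Ω : Type u} [Group Ω] {S : Subgroup Ω} [Finite S] (p : ℕ) [Fact p.Prime] (_ : IsPGroup p S)
    (F : FusionSystem S) (_ : F.IsSaturated p) {T : Subgroup Ω} (E : FusionSystem T)
    (_ : E.IsNormalIn F p) (C : Subgroup Ω) (_ : C ≤ centralizerIn S T) (_ : ECentral F E C)
    (_ : ∀ Y : Subgroup Ω, Y ≤ centralizerIn S T → ECentral F E Y → Y ≤ C)
    (Q : Subgroup Ω) (_ : T ≤ Q) (ψ : Q →* Ω) (_ : ψ ∈ F.Hom Q) (x : Q), (x : Ω) ∈ C → ψ x ∈ C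

/-! ## the Alperin induction -/

/-- ALP: Alperin induction. (`N.Hom Q = {φ ∈ F.Hom Q : ∀ x, x ∈ C ↔ φ x ∈ C}` is a fusion system
over `S` (conjugations by `S` by the first hypothesis); apply
`Cfsg.Agent.Lib.Helper87.FSAlperin.alperin_induction hS F hF N`; an `α ∈ F.Hom Y` with range `Y`
is an element of `F.autGroup Y` (`Cfsg.Agent.H85.mem_autGroup_iff`), apply the hypothesis to it
and to its inverse.) -/
def Alp : Prop :=
  ∀ {Ω : Type u} [Group Ω] {S : Subgroup Ω} [Finite S] (p : ℕ) [Fact p.Prime] (_ : IsPGroup p S)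
    (F : FusionSystem S) (_ : F.IsSaturated p) (C : Subgroup Ω),
    (∀ s ∈ S, ∀ x ∈ C, s * x * s⁻¹ ∈ C) →
    (∀ Y : Subgroup Ω, F.IsFullyAutomized p Y → F.IsReceptive Y → IH F C (Nat.card Y) →
      ∀ α ∈ F.autGroup Y, Pres C Y α) →
    ∀ (Q : Subgroup Ω) (φ : Q →* Ω), φ ∈ F.Hom Q → ∀ x : Q, (x : Ω) ∈ C → φ x ∈ C

/-- NONCEN: if `Y` is receptive and `C_S(Y) ≰ Y`, every `α ∈ Aut_F(Y)` extends to the strictly
larger subgroup `extender S Y α ≥ Y C_S(Y)`; apply `IH`.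
(`Cfsg.Agent.Lib.Helper88.AlpCentric.extends_of_not_centric`, or directly.) -/
def NonCen : Prop :=
  ∀ {Ω : Type u} [Group Ω] {S : Subgroup Ω} [Finite S] (F : FusionSystem S) (C Y : Subgroup Ω),
    F.IsReceptive Y → ¬ centralizerIn S Y ≤ Y → IH F C (Nat.card Y) →
    ∀ α ∈ F.autGroup Y, Pres C Y α

/-! ## stability automorphisms -/

/-- STABP: the automorphisms `β ∈ Aut_F(Y)` trivial on `Y ∩ T` and on `Y` modulo `T` form a
normal `p`-subgroup of `Aut_F(Y)` (`β(y) = y z`, `z ∈ Y ∩ T` fixed by `β`, so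
`β ^ |S| = 1`; normal because `T` is strongly closed), hence lie in the Sylow `p`-subgroup
`Aut_S(Y)` (fully automized). -/
def StabP : Prop :=
  ∀ {Ω : Type u} [Group Ω] {S : Subgroup Ω} [Finite S] (p : ℕ) [Fact p.Prime] (_ : IsPGroup p S)
    (F : FusionSystem S) (T : Subgroup Ω) (_ : F.StronglyClosed T) (Y : Subgroup Ω),
    F.IsFullyAutomized p Y → StabInS F T Y

/-- STABEXT: if `g ∈ N_S(Y) ∖ Y` acts trivially on `Y ∩ T` and on `Y` modulo `T`, then for every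
`α ∈ Aut_F(Y)` the automorphism `α c_g α⁻¹` is again of this kind (`T` strongly closed), hence
induced by some `h ∈ S` (`StabInS`); so `g ∈ extender S Y α`, `α` extends to a strictly larger
subgroup (receptive), and `IH` applies. -/
def StabExt : Prop :=
  ∀ {Ω : Type u} [Group Ω] {S : Subgroup Ω} [Finite S] (F : FusionSystem S) (T : Subgroup Ω)
    (_ : F.StronglyClosed T) (C Y : Subgroup Ω), F.IsReceptive Y → StabInS F T Y →
    ∀ g ∈ normalizerIn S Y, g ∉ Y → StabElt T Y g → IH F C (Nat.card Y) →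
    ∀ α ∈ F.autGroup Y, Pres C Y α

/-- STABINN: if no `g ∈ N_S(Y) ∖ Y` acts trivially on `Y ∩ T` and on `Y` modulo `T`, every
`β ∈ Aut_F(Y)` of this kind is inner (`β = c_g` on `Y` with `g ∈ N_S(Y)` by `StabInS`; then
`g ∈ Y`). -/
def StabInnP : Prop :=
  ∀ {Ω : Type u} [Group Ω] {S : Subgroup Ω} (F : FusionSystem S) (T Y : Subgroup Ω),
    StabInS F T Y → (∀ g ∈ normalizerIn S Y, StabElt T Y g → g ∈ Y) → StabInn F T Y

/-! ## `Y ∩ T` is `E`-centric -/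

/-- CENT: `Cfsg.Agent.Lib.Helper88.AlpCentric.isCentric_of_receptive`. -/
def Cent : Prop :=
  ∀ {Ω : Type u} [Group Ω] {S : Subgroup Ω} [Finite S] (F : FusionSystem S) (Y : Subgroup Ω),
    F.IsReceptive Y → centralizerIn S Y ≤ Y → F.IsCentric Y

/-- ECEN1: if `C_S(Y) ≤ Y` and `StabInn`, then `C_T(Y ∩ T) ≤ Y ∩ T`. (For
`c ∈ C_T(Y ∩ T) ∩ N_S(Y)`: `c_c` on `Y` is in `Aut_F(Y)`, trivial on `Y ∩ T` and modulo `T`
(`T` is normal in `S`), so `c_c = c_y` on `Y` with `y ∈ Y`, `y⁻¹ c ∈ C_S(Y) ≤ Y`, `c ∈ Y`. If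
`C_T(Y ∩ T) ≰ Y` then `Y < Y C_T(Y ∩ T)` (a subgroup: `Y` normalizes `C_T(Y ∩ T)`) and the
normalizer of `Y` in it is larger than `Y`: contradiction.) -/
def ECen1 : Prop :=
  ∀ {Ω : Type u} [Group Ω] {S : Subgroup Ω} [Finite S] (p : ℕ) [Fact p.Prime] (_ : IsPGroup p S)
    (F : FusionSystem S) (T : Subgroup Ω) (_ : F.StronglyClosed T) (Y : Subgroup Ω), Y ≤ S →
    centralizerIn S Y ≤ Y → StabInn F T Y → centralizerIn T (Y ⊓ T) ≤ Y ⊓ T

/-- STABTR: `StabInn` passes to `F`-conjugates. (For `χ : Y → Y'` and `β' ∈ Aut_F(Y')` of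
stability type, `χ⁻¹ β' χ ∈ Aut_F(Y)` is of stability type (`y ∈ T ↔ χ y ∈ T` as `T` is strongly
closed), so inner by some `y₀`; `β'` is conjugation by `χ y₀`.) -/
def StabTr : Prop :=
  ∀ {Ω : Type u} [Group Ω] {S : Subgroup Ω} (F : FusionSystem S) (T : Subgroup Ω)
    (_ : F.StronglyClosed T) (Y : Subgroup Ω), StabInn F T Y →
    ∀ χ ∈ F.Hom Y, StabInn F T χ.range

/-- ECENB: if `P'` is receptive and `C_T(P') ≤ P'` then `C_T(Q) ≤ Q` for every `F`-conjugate `Q`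
of `P'`. (`ρ : Q → P'` extends to `ρ^` on `extender S Q ρ ≥ C_S(Q)`
(`Cfsg.Agent.H85.centralizerIn_le_extender`); `ρ^(c) ∈ C_T(P') ≤ P' = ρ(Q)` for `c ∈ C_T(Q)`;
injectivity.) -/
def ECenB : Prop :=
  ∀ {Ω : Type u} [Group Ω] {S : Subgroup Ω} [Finite S] (F : FusionSystem S) (T : Subgroup Ω)
    (_ : F.StronglyClosed T) (P' : Subgroup Ω), F.IsReceptive P' → centralizerIn T P' ≤ P' →
    ∀ Q : Subgroup Ω, F.IsConj Q P' → centralizerIn T Q ≤ Q

/-- ECEN: if `Y` is `F`-centric and `StabInn`, then `Y ∩ T` is `E`-centric. (`P = Y ⊓ T`. Take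
`P'` `F`-conjugate to `P`, fully automized and receptive, and `χ ∈ Hom_F(N_S(P), S)` with
`χ(P) = P'` (`Cfsg.Agent.H85.exists_normalizer_extension` /
`Helper87.FSSat.exists_extension_normalizer`). `Y ≤ N_S(P)`; `Y' = χ(Y)` is `F`-conjugate to `Y`,
so `C_S(Y') ≤ Y'`, `StabInn F T Y'` (STABTR) and `Y' ⊓ T = P'`; ECEN1 gives `C_T(P') ≤ P'`,
ECENB gives `C_T(Q) ≤ Q` for all `F`-conjugates `Q` of `P`, in particular the `E`-conjugates.) -/
def ECen : Prop :=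
  ECen1.{u} → StabTr.{u} → ECenB.{u} →
  ∀ {Ω : Type u} [Group Ω] {S : Subgroup Ω} [Finite S] (p : ℕ) [Fact p.Prime] (_ : IsPGroup p S)
    (F : FusionSystem S) (_ : F.IsSaturated p) {T : Subgroup Ω} (E : FusionSystem T)
    (_ : E.IsNormalIn F p) (Y : Subgroup Ω), F.IsCentric Y → StabInn F T Y → E.IsCentric (Y ⊓ T)

/-! ## the generation argument -/

/-- AENORMAL: `A_E` is a normal subgroup of `Aut_F(Y)`. (Products and inverses: `T` is strongly
closed, so `Y ⊓ T` is invariant. Normality: for `a ∈ Aut_F(Y)`, `a|_{Y ⊓ T} ∈ Aut_F(Y ⊓ T)`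
normalizes `Aut_E(Y ⊓ T)` by strong invariance of `E`
(`Cfsg.Agent.H85.invariant_iff_strongInv`, `StrongInv`).) -/
def AENormal : Prop :=
  ∀ {Ω : Type u} [Group Ω] {S : Subgroup Ω} [Finite S] (p : ℕ) [Fact p.Prime] (_ : IsPGroup p S)
    (F : FusionSystem S) (_ : F.IsSaturated p) {T : Subgroup Ω} (E : FusionSystem T)
    (_ : E.IsNormalIn F p) (Y : Subgroup Ω), Y ≤ S →
    ∃ N : Subgroup ↥(F.autGroup Y), N.Normal ∧
      ∀ a : ↥(F.autGroup Y), a ∈ N ↔ InAE E Y (a : MulAut Y)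

/-- SAUT: if `S` normalizes `C` then `Aut_S(Y)` preserves `C`. (Closure induction on the
statement `∀ x, x ∈ C ↔ α x ∈ C`.) -/
def SAut : Prop :=
  ∀ {Ω : Type u} [Group Ω] (S C Y : Subgroup Ω), (∀ s ∈ S, ∀ x ∈ C, s * x * s⁻¹ ∈ C) →
    ∀ α ∈ autInducedBy S Y, Pres C Y α

/-- NEXT: if `T ≰ Y`, an `α ∈ Aut_F(Y)` with `α σ α⁻¹ ∈ Aut_S(Y)` for all `σ ∈ Aut_S(Y) ∩ A_E`
extends to a strictly larger subgroup, so `IH` applies. (`Y < Y T` and `T` is normal in `S`, so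
there is `t ∈ N_T(Y) ∖ Y`; `σ = c_t` on `Y` is in `Aut_S(Y) ∩ A_E` (`E.conj_mem` on `Y ⊓ T`);
`α σ α⁻¹ = c_h`, `h ∈ S`, so `t ∈ extender S Y α`; receptivity.) -/
def Next : Prop :=
  ∀ {Ω : Type u} [Group Ω] {S : Subgroup Ω} [Finite S] (p : ℕ) [Fact p.Prime] (_ : IsPGroup p S)
    (F : FusionSystem S) (_ : F.IsSaturated p) {T : Subgroup Ω} (E : FusionSystem T)
    (_ : E.IsNormalIn F p) (C Y : Subgroup Ω), F.IsReceptive Y → ¬ T ≤ Y →
    IH F C (Nat.card Y) →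
    ∀ α ∈ F.autGroup Y,
      (∀ σ ∈ autInducedBy S Y, InAE E Y σ → α * σ * α⁻¹ ∈ autInducedBy S Y) → Pres C Y α

/-- UFIXG: `CEStmt.UFix` for an automorphism of `P X` instead of `P C₀` (same proof): let `P` be
`E`-centric with `J(P)`, `X` centralize `E`, and `g ∈ Aut_F(P X)` of order prime to `p`,
restricting to an element `α` of `Aut_E(P)` and moving `X` by elements of `T`. Then `g` fixes
`X` elementwise. (The lift `a` of `α` fixing `X` satisfies `g a⁻¹ ∈ K_X(P)`, an abelian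
`p`-group normalized by `a` (KMEM); CoprimeConj gives `g = ν⁻¹ a ν`, so `g` fixes
`ν⁻¹(x) = x z_ν(x)⁻¹`, and `α` fixes `z_ν(x)` by `J(P)`.) -/
def UFixG : Prop :=
  ∀ {Ω : Type u} [Group Ω] {S : Subgroup Ω} [Finite S] (p : ℕ) [Fact p.Prime] (_ : IsPGroup p S)
    (F : FusionSystem S) (_ : F.IsSaturated p) {T : Subgroup Ω} (E : FusionSystem T)
    (_ : E.IsNormalIn F p) (P : Subgroup Ω) (_ : E.IsCentric P) (_ : JAt F E P)
    (X : Subgroup Ω) (_ : X ≤ centralizerIn S T) (_ : ECentral F E X)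
    (g : MulAut ↥(P ⊔ X)) (_ : g ∈ F.autGroup (P ⊔ X))
    (m : ℕ) (_ : m.Coprime p) (_ : g ^ m = 1) (α : MulAut P) (_ : α ∈ E.autGroup P)
    (_ : ∀ u : P, ((g (Subgroup.inclusion le_sup_left u) : ↥(P ⊔ X)) : Ω) = ((α u : P) : Ω))
    (_ : ∀ c : ↥(P ⊔ X), (c : Ω) ∈ X → (c : Ω)⁻¹ * ((g c : ↥(P ⊔ X)) : Ω) ∈ T),
    ∀ c : ↥(P ⊔ X), (c : Ω) ∈ X → g c = c

/-- PPRIME: an element `β` of `A_E` of order prime to `p` fixes `Y ∩ C` elementwise, when
`P = Y ⊓ T` is `E`-centric with `J(P)`. (`X = Y ⊓ C` centralizes `E` (restrict the extensions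
given by `ECentral F E C`); `β(x) ∈ x P` for `x ∈ X` and `β(P) = P`, so `β` restricts to
`g ∈ Aut_F(P X)` of order prime to `p`; UFIXG.) -/
def PPrime : Prop :=
  UFixG.{u} →
  ∀ {Ω : Type u} [Group Ω] {S : Subgroup Ω} [Finite S] (p : ℕ) [Fact p.Prime] (_ : IsPGroup p S)
    (F : FusionSystem S) (_ : F.IsSaturated p) {T : Subgroup Ω} (E : FusionSystem T)
    (_ : E.IsNormalIn F p) (C : Subgroup Ω) (_ : C ≤ centralizerIn S T) (_ : ECentral F E C)
    (Y : Subgroup Ω) (_ : Y ≤ S) (_ : E.IsCentric (Y ⊓ T)) (_ : JAt F E (Y ⊓ T))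
    (β : MulAut Y) (_ : β ∈ F.autGroup Y) (_ : InAE E Y β) (_ : (orderOf β).Coprime p),
    ∀ x : Y, (x : Ω) ∈ C → β x = x

/-- GEN: a subgroup `H` of a finite group `G` containing a Sylow `p`-subgroup `R`, the elements
of order prime to `p` of a normal subgroup `N`, and every `g` with `g (R ∩ N) g⁻¹ ≤ R`, is `G`.
(`R ∩ N` is a Sylow `p`-subgroup of `N`; Frattini (`Sylow.normalizer_sup_eq_top`):
`G = N N_G(R ∩ N)`; `N` is generated by `R ∩ N` and its elements of order prime to `p`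
(`FCStmt.SylowGen` = `Cfsg.Agent.Lib.Helper99.FCGEN.main`).) -/
def Gen : Prop :=
  ∀ {G : Type u} [Group G] [Finite G] (p : ℕ) [Fact p.Prime] (R : Sylow p G) (N H : Subgroup G),
    N.Normal → (R : Subgroup G) ≤ H → (∀ g ∈ N, (orderOf g).Coprime p → g ∈ H) →
    (∀ g : G, (∀ σ ∈ (R : Subgroup G) ⊓ N, g * σ * g⁻¹ ∈ (R : Subgroup G)) → g ∈ H) → H = ⊤

/-- STEP3: the main case. (`G = ↥(F.autGroup Y)`, `R` the Sylow subgroup with
`(R : Subgroup G) = (autInducedBy S Y).subgroupOf (F.autGroup Y)` from `IsFullyAutomized`, `N`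
from AENORMAL, `H = {a : Pres C Y a}` (a subgroup: a submonoid of a finite group); GEN with SAUT,
PPRIME (`Subgroup.orderOf_coe`) and NEXT.) -/
def Step3 : Prop :=
  Gen.{u} → AENormal.{u} → SAut.{u} → Next.{u} → PPrime.{u} → UFixG.{u} →
  ∀ {Ω : Type u} [Group Ω] {S : Subgroup Ω} [Finite S] (p : ℕ) [Fact p.Prime] (_ : IsPGroup p S)
    (F : FusionSystem S) (_ : F.IsSaturated p) {T : Subgroup Ω} (E : FusionSystem T)
    (_ : E.IsNormalIn F p) (C : Subgroup Ω) (_ : C ≤ centralizerIn S T) (_ : ECentral F E C)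
    (_ : ∀ s ∈ S, ∀ x ∈ C, s * x * s⁻¹ ∈ C)
    (Y : Subgroup Ω), F.IsFullyAutomized p Y → F.IsReceptive Y → ¬ T ≤ Y →
    E.IsCentric (Y ⊓ T) → JAt F E (Y ⊓ T) → IH F C (Nat.card Y) →
    ∀ α ∈ F.autGroup Y, Pres C Y α

end Cfsg.Agent.Lib.Helper85.SCStmt
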