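import Mathlib
import Cfsg.Agent.Lib.Helper88.ORStmt
import Cfsg.Agent.H85.ResLimit
import Cfsg.Agent.S5140

/-! Piece RLEX of S5202: a saturated fusion system has a residual limit. -/

set_option autoImplicit false

namespace Cfsg.Agent.Lib.Helper85.ORRLEX

open Cfsg Cfsg.FusionSystem Cfsg.Agent.H85 Cfsg.Agent.Lib.Helper88.ORStmt

universe u

/-- The `p'`-residual of a system is its own `p'`-residual. -/
theorem pprime_self {Ω : Type*} [Group Ω] {A : Subgroup Ω} {p : ℕ} {D D' : FusionSystem A}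
    (hD' : D.IsPPrimeResidual p D') : D'.IsPPrimeResidual p D' := by
  refine ⟨hD'.1, ⟨fun _ => subset_rfl, fun P _ => Subgroup.map_subtype_le _⟩, ?_⟩
  intro D₃ hD₃s hD₃i
  apply hD'.2.2 D₃ hD₃s
  refine ⟨fun P φ hφ => hD'.2.1.1 P (hD₃i.1 P hφ), fun P hP => ?_⟩
  rintro _ ⟨β, hβ, rfl⟩
  -- `β` lies in the closure of the `p`-elements of `Aut_D(P)`
  have h1 : (β : MulAut P) ∈ D'.autGroup P := hD'.2.1.2 P hP ⟨β, hβ, rfl⟩
  have hcl : ∀ γ : D.autGroup P, γ ∈ Subgroup.closure {α : ↥(D.autGroup P) | ∃ k : ℕ,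
      orderOf α = p ^ k} → (γ : MulAut P) ∈ D₃.autGroup P := by
    intro γ hγ
    induction hγ using Subgroup.closure_induction with
    | mem γ hγ =>
      obtain ⟨k, hk⟩ := hγ
      have hγ' : (γ : MulAut P) ∈ D'.autGroup P :=
        hD'.2.1.2 P hP ⟨γ, Subgroup.subset_closure ⟨k, hk⟩, rfl⟩
      apply hD₃i.2 P hP
      refine ⟨⟨(γ : MulAut P), hγ'⟩, Subgroup.subset_closure ⟨k, ?_⟩, rfl⟩
      rw [← hk, ← Subgroup.orderOf_coe, ← Subgroup.orderOf_coe]
    | one => exact Subgroup.one_mem _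
    | mul a b _ _ ha hb => exact Subgroup.mul_mem _ ha hb
    | inv a _ ha => exact Subgroup.inv_mem _ ha
  exact hcl β hβ

theorem main (hPP : PPEx.{u}) : RLEx.{u} := by
  intro Ω _ S _ p _ hS F hF
  -- strong induction on the order of `S`
  suffices h : ∀ n : ℕ, ∀ (S : Subgroup Ω) (_ : Finite S) (_ : IsPGroup p S) (F : FusionSystem S),
      F.IsSaturated p → Nat.card S = n →
        ∃ (U : Subgroup Ω) (L : FusionSystem U), L.IsResidualLimitOf F p from
    h _ S inferInstance hS F hF rfl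
  intro n
  induction n using Nat.strong_induction_on with
  | _ n ih =>
    intro S hfin hS F hF hn
    have hle := Cfsg.Agent.Lib.Helper87.FSHyp.hyperfocal_le F p
    haveI : Finite ↥(F.hyperfocalSubgroup p) := finite_of_le hle
    have hH : IsPGroup p ↥(F.hyperfocalSubgroup p) := hS.to_le hle
    obtain ⟨D, hDs, hDi⟩ := hPP p hS F hF (F.hyperfocalSubgroup p) hle le_rfl
    obtain ⟨D', hD'⟩ := Cfsg.Agent.S5140.result p hH D hDs
    have hle' := Cfsg.Agent.Lib.Helper87.FSHyp.hyperfocal_le D' p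
    by_cases hst : D'.hyperfocalSubgroup p = F.hyperfocalSubgroup p
    · exact ⟨_, D', IsResidualLimitOf.step F p D D' ⟨hDs, hDi⟩ hD'
        (IsResidualLimitOf.stable D' p hst (pprime_self hD'))⟩
    · haveI : Finite ↥(D'.hyperfocalSubgroup p) := finite_of_le hle'
      have hH' : IsPGroup p ↥(D'.hyperfocalSubgroup p) := hH.to_le hle'
      obtain ⟨D₂, hD₂s, hD₂i⟩ := hPP p hH D' hD'.1 (D'.hyperfocalSubgroup p) hle' le_rfl
      obtain ⟨D₂', hD₂'⟩ := Cfsg.Agent.S5140.result p hH' D₂ hD₂s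
      have hlt : Nat.card ↥(D'.hyperfocalSubgroup p) < n := by
        rw [← hn]
        have h1 : Nat.card ↥(D'.hyperfocalSubgroup p) < Nat.card ↥(F.hyperfocalSubgroup p) := by
          by_contra hcon
          exact hst (Subgroup.eq_of_le_of_card_ge hle' (not_lt.mp hcon))
        exact h1.trans_le (Subgroup.card_le_of_le hle)
      obtain ⟨U, L, hL⟩ := ih _ hlt (D'.hyperfocalSubgroup p) inferInstance hH' D₂' hD₂'.1 rfl
      exact ⟨U, L, IsResidualLimitOf.step F p D D' ⟨hDs, hDi⟩ hD'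
        (IsResidualLimitOf.step D' p D₂ D₂' ⟨hD₂s, hD₂i⟩ hD₂' hL)⟩

end Cfsg.Agent.Lib.Helper85.ORRLEX
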