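import Mathlib
import Cfsg.Agent.Lib.Helper88.ORStmt
import Cfsg.Agent.H85.ResLimit
import Cfsg.Agent.S5140
import Cfsg.Agent.S5141

/-! Piece RLN of S5202: a normal subsystem over the same `S` has the same residual limit. -/

set_option autoImplicit false

namespace Cfsg.Agent.Lib.Helper85.ORRLN

open Cfsg Cfsg.FusionSystem Cfsg.Agent.H85 Cfsg.Agent.Lib.Helper88.ORStmt

universe u

/-- `RLSame` with explicit binders. -/
def RL {Ω : Type*} [Group Ω] (p : ℕ) {A B : Subgroup Ω} (X : FusionSystem A)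
    (Y : FusionSystem B) : Prop :=
  ∀ (U V : Subgroup Ω) (Xinf : FusionSystem U) (Yinf : FusionSystem V),
    Xinf.IsResidualLimitOf X p → Yinf.IsResidualLimitOf Y p →
      ∀ P : Subgroup Ω, Xinf.Hom P = Yinf.Hom P

theorem rl_of {Ω : Type*} [Group Ω] {p : ℕ} {A B : Subgroup Ω} {X : FusionSystem A}
    {Y : FusionSystem B} (h : RLSame p X Y) : RL p X Y :=
  fun _ _ Xinf Yinf hX hY => h Xinf Yinf hX hY

theorem of_rl {Ω : Type*} [Group Ω] {p : ℕ} {A B : Subgroup Ω} {X : FusionSystem A}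
    {Y : FusionSystem B} (h : RL p X Y) : RLSame p X Y :=
  fun {U V} Xinf Yinf hX hY => h U V Xinf Yinf hX hY

theorem rl_symm {Ω : Type*} [Group Ω] {p : ℕ} {A B : Subgroup Ω} {X : FusionSystem A}
    {Y : FusionSystem B} (h : RL p X Y) : RL p Y X :=
  fun V U Yinf Xinf hY hX P => (h U V Xinf Yinf hX hY P).symm

theorem rl_trans {Ω : Type*} [Group Ω] {p : ℕ} {A B C : Subgroup Ω} {X : FusionSystem A}
    {Y : FusionSystem B} {Z : FusionSystem C}
    (hY : ∃ (U : Subgroup Ω) (L : FusionSystem U), L.IsResidualLimitOf Y p)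
    (h : RL p X Y) (h' : RL p Y Z) : RL p X Z := by
  intro U V Xinf Zinf hX hZ P
  obtain ⟨W, L, hL⟩ := hY
  exact (h U W Xinf L hX hL P).trans (h' W V L Zinf hL hZ P)

theorem rl_ppower {Ω : Type*} [Group Ω] {S : Subgroup Ω} [Finite S] (p : ℕ) [Fact p.Prime]
    (hS : IsPGroup p S) (F : FusionSystem S) {T : Subgroup Ω} (E : FusionSystem T)
    (hEsat : E.IsSaturated p) (hidx : E.HasPPowerIndexIn F p) : RL p F E :=
  fun _ _ Finf Einf hFi hEi => resLimit_ppower p hS F E hEsat hidx Finf hFi Einf hEi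

set_option linter.unusedVariables false in
theorem main (hPP : PPEx.{u}) (hA : RLCaseA.{u}) (hB : RLCaseB.{u}) (hDEF : RLDef.{u})
    (hEX : RLEx.{u}) (hSELF : SelfNormal.{u}) : RLNormal.{u} := by
  intro Ω _ S _ p _ hS F hF F₁ hF₁ U V Xinf Yinf hX hY P
  suffices h : ∀ n : ℕ, ∀ (S : Subgroup Ω) (_ : Finite S) (_ : IsPGroup p S)
      (F F₁ : FusionSystem S), F.IsSaturated p → F₁.IsNormalIn F p → Nat.card S = n →
        RL p F₁ F from h _ S inferInstance hS F F₁ hF hF₁ rfl U V Xinf Yinf hX hY P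
  intro n
  induction n using Nat.strong_induction_on with
  | _ n ih =>
    intro S hfin hS F F₁ hF hF₁ hn
    have hF₁s : F₁.IsSaturated p := hF₁.1.1
    have hle := Cfsg.Agent.Lib.Helper87.FSHyp.hyperfocal_le F p
    by_cases hhyp : F.hyperfocalSubgroup p = S
    · obtain ⟨Y, hY⟩ := Cfsg.Agent.S5140.result p hS F hF
      have hY₁ : F₁.IsPPrimeResidual p Y := hB p hS F hF F₁ Y hF₁ hY
      have h1 : RL p F Y := rl_of (hDEF p hS F hF Y hhyp hY)
      have hYex := hEX p hS Y hY.1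
      by_cases hhyp₁ : F₁.hyperfocalSubgroup p = S
      · have h2 : RL p F₁ Y := rl_of (hDEF p hS F₁ hF₁s Y hhyp₁ hY₁)
        exact rl_trans hYex h2 (rl_symm h1)
      · have hYn : Y.IsNormalIn F₁ p :=
          Cfsg.Agent.S5141.result p hS F₁ hF₁s F₁ (hSELF p hS F₁ hF₁s).1 Y hY₁
        obtain ⟨X, W, ⟨hXs, hXi⟩, ⟨hWs, hWi⟩, hWX⟩ := hA p hS F₁ hF₁s Y hYn
        have hle₁ := Cfsg.Agent.Lib.Helper87.FSHyp.hyperfocal_le F₁ p
        have : Finite ↥(F₁.hyperfocalSubgroup p) := finite_of_le hle₁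
        have hH₁ : IsPGroup p ↥(F₁.hyperfocalSubgroup p) := hS.to_le hle₁
        have hlt : Nat.card ↥(F₁.hyperfocalSubgroup p) < n := by
          rw [← hn]
          by_contra hcon
          exact hhyp₁ (Subgroup.eq_of_le_of_card_ge hle₁ (not_lt.mp hcon))
        have h3 : RL p W X :=
          ih _ hlt (F₁.hyperfocalSubgroup p) inferInstance hH₁ X W hXs hWX rfl
        have h4 : RL p F₁ X := rl_ppower p hS F₁ X hXs hXi
        have h5 : RL p Y W := rl_ppower p hS Y W hWs hWi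
        have hXex := hEX p hH₁ X hXs
        have hWex := hEX p hH₁ W hWs
        exact rl_trans hXex h4 (rl_trans hWex (rl_symm h3)
          (rl_trans hYex (rl_symm h5) (rl_symm h1)))
    · obtain ⟨X, W, ⟨hXs, hXi⟩, ⟨hWs, hWi⟩, hWX⟩ := hA p hS F hF F₁ hF₁
      have : Finite ↥(F.hyperfocalSubgroup p) := finite_of_le hle
      have hH : IsPGroup p ↥(F.hyperfocalSubgroup p) := hS.to_le hle
      have hlt : Nat.card ↥(F.hyperfocalSubgroup p) < n := by
        rw [← hn]
        by_contra hcon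
        exact hhyp (Subgroup.eq_of_le_of_card_ge hle (not_lt.mp hcon))
      have h3 : RL p W X :=
        ih _ hlt (F.hyperfocalSubgroup p) inferInstance hH X W hXs hWX rfl
      have h4 : RL p F X := rl_ppower p hS F X hXs hXi
      have h5 : RL p F₁ W := rl_ppower p hS F₁ W hWs hWi
      have hXex := hEX p hH X hXs
      have hWex := hEX p hH W hWs
      exact rl_trans hWex h5 (rl_trans hXex h3 (rl_symm h4))

end Cfsg.Agent.Lib.Helper85.ORRLN
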