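import Mathlib
import Cfsg.Agent.Lib.Helper85.PPStmt
import Cfsg.Agent.H85.PPow

set_option autoImplicit false

/-! Assembly for S5113 from the pieces of `PPStmt`. -/

namespace Cfsg.Agent.Lib.Helper85.PPAsm

open Cfsg Cfsg.FusionSystem Cfsg.Agent.Lib.Helper85.PPStmt

universe u v

/-- every fully normalized `Q ≤ T` with `C_S(Q) ≤ T` is rigid -/
def RigidAll : Prop := ∀ (Ω : Type u) [Group Ω] (S : Subgroup Ω) [Finite S] (p : ℕ)
  [Fact p.Prime], IsPGroup p S → ∀ F : FusionSystem S, F.IsSaturated p → ∀ (A : Type v) [Group A]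
    (δ : S →* A) (T : Subgroup Ω), DD F p δ T → ∀ Q : Subgroup Ω, F.IsFullyNormalized Q →
      Q ≤ T → centralizerIn S Q ≤ T → Rigid F p δ Q

theorem rigidAll (hRT : RigidTop.{u, v}) (hRS : RigidStep.{u, v}) (hHB : BigRigid.{u, v}) :
    RigidAll.{u, v} := by
  intro Ω _ S _ p _ hS F hF A _ δ T hD
  suffices H : ∀ (k : ℕ) (Q : Subgroup Ω), Nat.card T - Nat.card Q = k →
      F.IsFullyNormalized Q → Q ≤ T → centralizerIn S Q ≤ T → Rigid F p δ Q from
    fun Q hQ hQT hC => H _ Q rfl hQ hQT hC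
  intro k
  induction k using Nat.strong_induction_on with
  | _ k ih =>
    intro Q hk hQ hQT hC
    haveI : Finite T := Finite.of_injective (Subgroup.inclusion hD.le)
      (Subgroup.inclusion_injective _)
    have hle : Nat.card Q ≤ Nat.card T := Subgroup.card_le_of_le hQT
    rcases hle.eq_or_lt with heq | hlt
    · have hQeq : Q = T := Subgroup.eq_of_le_of_card_ge hQT heq.ge
      subst hQeq
      exact hRT Ω S p hS F hF A δ Q hD hC
    · refine hRS Ω S p hS F hF A δ T hD Q hQ hQT hlt hC ?_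
      refine hHB Ω S p hS F hF A δ T hD Q hQ hQT hC ?_
      intro Q' hQ' hQ'T hC' hlt'
      have hle' : Nat.card Q' ≤ Nat.card T := Subgroup.card_le_of_le hQ'T
      exact ih (Nat.card T - Nat.card Q') (by omega) Q' rfl hQ' hQ'T hC'

/-- the index `p` case -/
def IdxP : Prop := ∀ (Ω : Type u) [Group Ω] (S T : Subgroup Ω) [Finite S] (p : ℕ)
  [Fact p.Prime], IsPGroup p S → ∀ F : FusionSystem S, F.IsSaturated p → T ≤ S →
    (∀ s ∈ S, ∀ t ∈ T, s * t * s⁻¹ ∈ T) → Nat.card S = p * Nat.card T →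
    F.hyperfocalSubgroup p ≤ T → ∃ E : FusionSystem T, E.IsSaturated p ∧ E.HasPPowerIndexIn F p

theorem idxP (hQ : QuoData.{u}) (hSys : SysExists.{u}) (hPPI : SysPPI.{u})
    (hRA : RigidAll.{u, u}) (hSat : SatMain.{u, u}) : IdxP.{u} := by
  intro Ω _ S T _ p _ hS F hF hTS hTn hcard hhyp
  obtain ⟨A, instA, δ, hcomm, hker, hprime⟩ := hQ Ω S T p hS hTS hTn hcard
  have hD : DD F p δ T := ⟨hcomm, hTS, hker, hhyp⟩
  obtain ⟨E, hE⟩ := hSys Ω S F p T hTS hhyp
  refine ⟨E, ?_, hPPI Ω S F p T hTS hhyp E hE⟩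
  exact hSat Ω S p hS F hF A δ T hD hprime (hRA Ω S p hS F hF A δ T hD) E hE

/-- existence in general -/
def Ex : Prop := ∀ (Ω : Type u) [Group Ω] (S : Subgroup Ω) [Finite S] (p : ℕ) [Fact p.Prime],
  IsPGroup p S → ∀ F : FusionSystem S, F.IsSaturated p → ∀ T : Subgroup Ω, T ≤ S →
    F.hyperfocalSubgroup p ≤ T → ∃ E : FusionSystem T, E.IsSaturated p ∧ E.HasPPowerIndexIn F p

theorem ex (hI : IdxP.{u}) (hM : MaxSub.{u}) (hHM : HypMono.{u}) (hTR : PPITrans.{u}) :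
    Ex.{u} := by
  intro Ω _
  suffices H : ∀ (k : ℕ) (S : Subgroup Ω) [Finite S] (p : ℕ) [Fact p.Prime], IsPGroup p S →
      ∀ F : FusionSystem S, F.IsSaturated p → ∀ T : Subgroup Ω, T ≤ S →
      F.hyperfocalSubgroup p ≤ T → Nat.card S - Nat.card T = k →
      ∃ E : FusionSystem T, E.IsSaturated p ∧ E.HasPPowerIndexIn F p from
    fun S _ p _ hS F hF T hTS hT => H _ S p hS F hF T hTS hT rfl
  intro k
  induction k using Nat.strong_induction_on with
  | _ k ih =>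
    intro S _ p _ hS F hF T hTS hT hk
    by_cases hTeq : T = S
    · subst hTeq
      exact ⟨F, hF, fun P => subset_rfl, hT, fun P _ => Subgroup.map_subtype_le _⟩
    · obtain ⟨T₁, hTT₁, hT₁S, hT₁n, hcard⟩ := hM Ω S T p hS hTS hTeq
      obtain ⟨F₁, hF₁s, hF₁i⟩ := hI Ω S T₁ p hS F hF hT₁S hT₁n hcard (hT.trans hTT₁)
      haveI : Finite T₁ := Finite.of_injective (Subgroup.inclusion hT₁S)
        (Subgroup.inclusion_injective _)
      have hS₁ : IsPGroup p T₁ := hS.to_le hT₁S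
      have hhyp₁ : F₁.hyperfocalSubgroup p ≤ T := (hHM Ω S T₁ F F₁ p hT₁S hF₁i.1).trans hT
      have hp : 2 ≤ p := (Fact.out : p.Prime).two_le
      have hpos : 0 < Nat.card T₁ := Nat.card_pos
      have hTle : Nat.card T ≤ Nat.card T₁ := Subgroup.card_le_of_le hTT₁
      have hlt : Nat.card T₁ - Nat.card T < k := by
        have h2 : 2 * Nat.card T₁ ≤ Nat.card S := by
          rw [hcard]; exact Nat.mul_le_mul_right _ hp
        omega
      obtain ⟨E, hEs, hEi⟩ := ih _ hlt T₁ p hS₁ F₁ hF₁s T hTT₁ hhyp₁ rfl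
      exact ⟨E, hEs, hTR Ω S T₁ T F F₁ E p hTT₁ hT₁S hF₁i hEi hT⟩

theorem fs_ext {Ω : Type u} [Group Ω] {T : Subgroup Ω} (E E' : FusionSystem T)
    (h : ∀ P : Subgroup Ω, E.Hom P = E'.Hom P) : E = E' := by
  have h' : E.Hom = E'.Hom := funext h
  cases E
  cases E'
  cases h'
  rfl

/-- S5113 from the existence statement -/
theorem s5113 (hEx : Ex.{u}) {Ω : Type u} [Group Ω] {S : Subgroup Ω} [Finite S] (p : ℕ)
    [Fact p.Prime] (hS : IsPGroup p S) (F : FusionSystem S) (hF : F.IsSaturated p)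
    (T : Subgroup Ω) (hTS : T ≤ S) (hT : F.hyperfocalSubgroup p ≤ T) :
    ∃ E : FusionSystem T, (E.IsSaturated p ∧ E.HasPPowerIndexIn F p) ∧
      ∀ E' : FusionSystem T, E'.IsSaturated p → E'.HasPPowerIndexIn F p → E' = E := by
  obtain ⟨E, hEs, hEi⟩ := hEx Ω S p hS F hF T hTS hT
  refine ⟨E, ⟨hEs, hEi⟩, fun E' hE's hE'i => ?_⟩
  exact fs_ext E' E (Cfsg.Agent.H85.ppower_index_unique p hS F rfl E' E hE's hEs hE'i hEi)

end Cfsg.Agent.Lib.Helper85.PPAsm
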