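import Mathlib
import Cfsg.Agent.Lib.Helper85.PPStmt
import Cfsg.Agent.H85.Basic
import Cfsg.Agent.H85.Sat
import Cfsg.Agent.H85.Hyp
import Cfsg.Agent.H85.ResAut
import Cfsg.Agent.H85.Alperin

set_option autoImplicit false

/-! S5113 piece [TB]: base case of the telescoping. -/

namespace Cfsg.Agent.Lib.Helper85.PPTB

open Cfsg Cfsg.FusionSystem Cfsg.Agent.Lib.Helper85.PPStmt Cfsg.Agent.H85

universe u v

variable {Ω : Type u} [Group Ω] {S : Subgroup Ω}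

/-- membership in `T = ker δ` is preserved and reflected by maps of `F`. -/
theorem mem_T_iff (hDI : DegInv.{u, v}) [Finite S] (p : ℕ) [Fact p.Prime] (hS : IsPGroup p S)
    (F : FusionSystem S) (hF : F.IsSaturated p) {A : Type v} [Group A] (δ : S →* A)
    (T : Subgroup Ω) (hD : DD F p δ T) {P : Subgroup Ω} {φ : P →* Ω} (hφ : φ ∈ F.Hom P) (x : P) :
    φ x ∈ T ↔ (x : Ω) ∈ T := by
  have h := hDI Ω S p hS F hF A δ T hD P φ hφ x
  rw [← hD.ker ⟨φ x, (F.le_of_mem hφ).2 x⟩, ← hD.ker ⟨x, (F.le_of_mem hφ).1 x.2⟩, h]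

/-- an injective map between finite sets of the same cardinality is onto -/
theorem surj_of_card {α β : Type*} [Finite β] (f : α → β) (hf : Function.Injective f)
    (hc : Nat.card α = Nat.card β) : Function.Surjective f := by
  haveI : Finite α := Finite.of_injective f hf
  exact ((Nat.bijective_iff_injective_and_card f).mpr ⟨hf, hc⟩).2

theorem gen (hCL : Compat.{u, v}) (hDI : DegInv.{u, v}) (hSR : StarRestrict.{u})
    (hSI : StarInv.{u}) (hSC : StarConj.{u}) (hSMem : StarMem.{u})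
    [Finite S] (p : ℕ) [Fact p.Prime] (hS : IsPGroup p S) (F : FusionSystem S)
    (hF : F.IsSaturated p) {A : Type v} [Group A] (δ : S →* A) (T : Subgroup Ω)
    (hD : DD F p δ T) (Q : Subgroup Ω) (hQ : F.IsFullyNormalized Q) (hQT : Q ≤ T)
    (hbig : ∀ M : Subgroup Ω, M ≤ T → Q ≤ M → Nat.card Q < Nat.card M → Rigid F p δ M)
    (P' P'' : Subgroup Ω) (hc' : Nat.card P' = Nat.card Q)
    (χ' : ↥(normalizerIn T P') →* Ω) (χ'' : ↥(normalizerIn T P'') →* Ω) (s' s'' : S)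
    (hχ' : χ' ∈ F.Hom (normalizerIn T P')) (hχ'' : χ'' ∈ F.Hom (normalizerIn T P''))
    (hd' : Dec F p χ' s') (hd'' : Dec F p χ'' s'')
    (hχ'Q : ∀ x : ↥(normalizerIn T P'), (x : Ω) ∈ P' → χ' x ∈ Q)
    (hχ''Q : ∀ x : ↥(normalizerIn T P''), (x : Ω) ∈ P'' → χ'' x ∈ Q)
    (M₀ : Subgroup Ω) (hP'M₀ : P' ≤ M₀) (hM₀N : M₀ ≤ normalizerIn T P')
    (hlt : Nat.card P' < Nat.card M₀)
    (ζ : M₀ →* Ω) (hζ : Star F p M₀ ζ) (hζN : ∀ x : M₀, ζ x ∈ normalizerIn T P'')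
    (hζP : ∀ x : M₀, (x : Ω) ∈ P' → ζ x ∈ P'')
    (γ : MulAut Q)
    (hγ : ∀ (x : M₀) (_ : (x : Ω) ∈ P') (hq : χ' ⟨x, hM₀N x.2⟩ ∈ Q),
      ((γ ⟨χ' ⟨x, hM₀N x.2⟩, hq⟩ : Q) : Ω) = χ'' ⟨ζ x, hζN x⟩) :
    LDeg F p δ Q γ (δ s'' * (δ s')⁻¹) := by
  have hNS : normalizerIn T P' ≤ S := (F.le_of_mem hχ').1
  haveI : Finite Q := finite_of_le hQ.1
  haveI : Finite M₀ := finite_of_le (hM₀N.trans hNS)
  -- θ := χ' restricted to M₀
  set θ : M₀ →* Ω := χ'.comp (Subgroup.inclusion hM₀N) with hθdef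
  have hθ : θ ∈ F.Hom M₀ := restrict_mem F hχ' hM₀N
  have hθinj : Function.Injective θ := F.injective_of_mem hθ
  have hθapp : ∀ x : M₀, θ x = χ' ⟨x, hM₀N x.2⟩ := fun x => rfl
  -- χ' maps P' onto Q
  have hsurj : ∀ y : Q, ∃ x : M₀, (x : Ω) ∈ P' ∧ θ x = (y : Ω) := by
    let f : P' → Q := fun x => ⟨θ ⟨x, hP'M₀ x.2⟩, hχ'Q _ x.2⟩
    have hf : Function.Injective f := by
      intro a b hab
      have h1 : θ ⟨a, hP'M₀ a.2⟩ = θ ⟨b, hP'M₀ b.2⟩ := congrArg Subtype.val hab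
      have h2 := hθinj h1
      exact Subtype.ext (congrArg (fun z : M₀ => (z : Ω)) h2)
    intro y
    obtain ⟨x, hx⟩ := surj_of_card f hf hc' y
    exact ⟨⟨x, hP'M₀ x.2⟩, x.2, congrArg Subtype.val hx⟩
  -- the image M
  set M : Subgroup Ω := θ.range with hMdef
  have hQM : Q ≤ M := by
    intro y hy
    obtain ⟨x, -, hx⟩ := hsurj ⟨y, hy⟩
    exact ⟨x, hx⟩
  have hMT : M ≤ T := by
    rintro _ ⟨x, rfl⟩
    exact (mem_T_iff hDI p hS F hF δ T hD hθ x).mpr (hM₀N x.2).1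
  have hMnorm : ∀ m ∈ M, m ∈ Subgroup.normalizer (Q : Set Ω) := by
    rintro _ ⟨m, rfl⟩
    apply mem_normalizer_of_forall
    · intro t ht
      obtain ⟨x, hxP, hx⟩ := hsurj ⟨t, ht⟩
      have hx' : θ x = t := hx
      rw [← hx', ← map_inv, ← map_mul, ← map_mul]
      have hmem : (m : Ω) * x * (m : Ω)⁻¹ ∈ P' := ((hM₀N m.2).2 x).mp hxP
      exact hχ'Q _ hmem
    · intro t ht
      obtain ⟨x, hxP, hx⟩ := hsurj ⟨t, ht⟩
      have hx' : θ x = t := hx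
      rw [← hx', ← map_inv, ← map_mul, ← map_mul]
      have hmem : (m : Ω)⁻¹ * x * (m : Ω) ∈ P' :=
        (Subgroup.mem_normalizer_iff''.mp (hM₀N m.2).2 x).mp hxP
      exact hχ'Q _ hmem
  have hcardM : Nat.card M = Nat.card M₀ :=
    (Nat.card_congr (MonoidHom.ofInjective hθinj).toEquiv).symm
  have hcard : Nat.card Q < Nat.card M := by rw [hcardM, ← hc']; exact hlt
  have hrig : Rigid F p δ M := hbig M hMT hQM hcard
  -- inverse of θ
  set θinv : M →* M₀ := (MonoidHom.ofInjective hθinj).symm.toMonoidHom with hθinvdef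
  have hθinv : ∀ x : M₀, θinv ⟨θ x, ⟨x, rfl⟩⟩ = x := by
    intro x
    exact (MonoidHom.ofInjective hθinj).symm_apply_apply x
  have hθinv' : ∀ y : M, θ (θinv y) = (y : Ω) := by
    intro y
    have := (MonoidHom.ofInjective hθinj).apply_symm_apply y
    exact congrArg Subtype.val this
  have hθinvF : M₀.subtype.comp θinv ∈ F.Hom M := by
    obtain ⟨ψ, hψ, hψx⟩ := F.inv_mem hθ
    refine hom_congr F hψ (fun y => ?_)
    obtain ⟨x, hx⟩ := y.2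
    have hy : y = ⟨θ x, ⟨x, rfl⟩⟩ := Subtype.ext hx.symm
    rw [hy, hψx]
    show ((θinv ⟨θ x, ⟨x, rfl⟩⟩ : M₀) : Ω) = x
    rw [hθinv]
  -- the map φ = χ'' ∘ ζ ∘ θ⁻¹
  set φ : M →* Ω := χ''.comp ((ζ.codRestrict (normalizerIn T P'') hζN).comp θinv) with hφdef
  have hφapp : ∀ x : M₀, φ ⟨θ x, ⟨x, rfl⟩⟩ = χ'' ⟨ζ x, hζN x⟩ := by
    intro x
    show χ'' ⟨ζ (θinv ⟨θ x, ⟨x, rfl⟩⟩), _⟩ = _
    congr 2
    rw [hθinv]
  have hζF : ζ ∈ F.Hom M₀ := hSMem Ω S F p M₀ ζ hζ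
  have hφF : φ ∈ F.Hom M := by
    have h1 : ζ.comp θinv ∈ F.Hom M :=
      comp_mem' F hθinvF hζF (fun y => (θinv y).2) (fun _ => rfl)
    exact comp_mem' F h1 hχ'' (fun y => hζN (θinv y)) (fun _ => rfl)
  -- φ preserves Q and induces γ
  have hφQ : ∀ x : M, (x : Ω) ∈ Q → φ x ∈ Q := by
    intro x hx
    obtain ⟨x₁, hx₁P, hx₁⟩ := hsurj ⟨x, hx⟩
    have hxe : x = ⟨θ x₁, ⟨x₁, rfl⟩⟩ := Subtype.ext hx₁.symm
    rw [hxe, hφapp]
    exact hχ''Q _ (hζP x₁ hx₁P)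
  have hγφ : ∀ (x : Q) (hx : (x : Ω) ∈ M), ((γ x : Q) : Ω) = φ ⟨x, hx⟩ := by
    intro x hx
    obtain ⟨x₁, hx₁P, hx₁⟩ := hsurj x
    have hq : χ' ⟨x₁, hM₀N x₁.2⟩ ∈ Q := by
      have : θ x₁ = (x : Ω) := hx₁
      rw [← hθapp, this]; exact x.2
    have h1 := hγ x₁ hx₁P hq
    have hxe : x = ⟨χ' ⟨x₁, hM₀N x₁.2⟩, hq⟩ := Subtype.ext hx₁.symm
    have hxe' : (⟨x, hx⟩ : M) = ⟨θ x₁, ⟨x₁, rfl⟩⟩ := Subtype.ext hx₁.symm
    rw [hxe', hφapp, ← h1, ← hxe]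
  -- the decomposition of φ
  obtain ⟨ψ', hψ'star, hψ'eq⟩ := hd'
  obtain ⟨ψ'', hψ''star, hψ''eq⟩ := hd''
  have hs'S : (s' : Ω) ∈ S := s'.2
  -- ψ' restricted to M₀ and its inverse
  set ψ₀ : M₀ →* Ω := ψ'.comp (Subgroup.inclusion hM₀N) with hψ₀def
  have hψ₀star : Star F p M₀ ψ₀ := hSR Ω S F p _ M₀ ψ' hM₀N hψ'star
  have hψ₀F : ψ₀ ∈ F.Hom M₀ := hSMem Ω S F p M₀ ψ₀ hψ₀star
  have hψ₀inj : Function.Injective ψ₀ := F.injective_of_mem hψ₀F
  have hθψ₀ : ∀ x : M₀, θ x = (s' : Ω) * ψ₀ x * (s' : Ω)⁻¹ := fun x => hψ'eq _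
  set M₁ : Subgroup Ω := ψ₀.range with hM₁def
  set ψinv : M₁ →* Ω := M₀.subtype.comp (MonoidHom.ofInjective hψ₀inj).symm.toMonoidHom
    with hψinvdef
  have hψinv : ∀ x : M₀, ψinv ⟨ψ₀ x, ⟨x, rfl⟩⟩ = (x : Ω) := by
    intro x
    show (((MonoidHom.ofInjective hψ₀inj).symm ⟨ψ₀ x, ⟨x, rfl⟩⟩ : M₀) : Ω) = x
    have := (MonoidHom.ofInjective hψ₀inj).symm_apply_apply x
    exact congrArg Subtype.val this
  have hψinvstar : Star F p M₁ ψinv :=
    hSI Ω S F p M₀ M₁ ψ₀ ψinv hψ₀star (fun x => ⟨x, rfl⟩) hψinv (fun y => y.2)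
  -- Ψ := ψ'' ∘ ζ ∘ ψ₀⁻¹ on M₁
  have hψinvM₀ : ∀ y : M₁, ψinv y ∈ M₀ := fun y =>
    ((MonoidHom.ofInjective hψ₀inj).symm y).2
  have hΨ1 : Star F p M₁ (ζ.comp (ψinv.codRestrict M₀ hψinvM₀)) :=
    Star.comp hψinvM₀ hψinvstar hζ
  have hΨ1N : ∀ y : M₁, (ζ.comp (ψinv.codRestrict M₀ hψinvM₀)) y ∈ normalizerIn T P'' :=
    fun y => hζN _
  have hΨ : Star F p M₁ (ψ''.comp ((ζ.comp (ψinv.codRestrict M₀ hψinvM₀)).codRestrict
      (normalizerIn T P'') hΨ1N)) := Star.comp hΨ1N hΨ1 hψ''star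
  -- conjugate by s'
  set Ψ' : M →* Ω := (MulAut.conj (s' : Ω)).toMonoidHom.comp
    (ψ''.comp ((ζ.codRestrict (normalizerIn T P'') hζN).comp θinv)) with hΨ'def
  have hΨ'app : ∀ x : M₀, Ψ' ⟨θ x, ⟨x, rfl⟩⟩ =
      (s' : Ω) * ψ'' ⟨ζ x, hζN x⟩ * (s' : Ω)⁻¹ := by
    intro x
    show (s' : Ω) * ψ'' ⟨ζ (θinv ⟨θ x, ⟨x, rfl⟩⟩), _⟩ * (s' : Ω)⁻¹ = _
    congr 3
    rw [hθinv]
  have hconjM : ∀ x : M₁, (s' : Ω) * (x : Ω) * (s' : Ω)⁻¹ ∈ M := by
    rintro ⟨_, x, rfl⟩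
    exact ⟨x, hθψ₀ x⟩
  have hconjM₁ : ∀ y : M, (s' : Ω)⁻¹ * (y : Ω) * (s' : Ω) ∈ M₁ := by
    rintro ⟨_, x, rfl⟩
    refine ⟨x, ?_⟩
    show ψ₀ x = (s' : Ω)⁻¹ * θ x * (s' : Ω)
    rw [hθψ₀]
    group
  have hΨ'star : Star F p M Ψ' := by
    refine hSC Ω S F p M₁ M _ Ψ' (s' : Ω) hs'S hΨ hconjM hconjM₁ ?_
    rintro ⟨_, x, rfl⟩
    have e1 : (⟨(s' : Ω) * ψ₀ x * (s' : Ω)⁻¹, hconjM ⟨ψ₀ x, ⟨x, rfl⟩⟩⟩ : M) =
        ⟨θ x, ⟨x, rfl⟩⟩ := Subtype.ext (hθψ₀ x).symm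
    rw [e1, hΨ'app]
    show _ = (s' : Ω) * ψ'' ⟨ζ ⟨ψinv ⟨ψ₀ x, ⟨x, rfl⟩⟩, _⟩, _⟩ * (s' : Ω)⁻¹
    congr 4
    exact congrArg ζ (Subtype.ext (hψinv x).symm)
  have hdec : Dec F p φ (s'' * s'⁻¹) := by
    refine ⟨Ψ', hΨ'star, ?_⟩
    rintro ⟨_, x, rfl⟩
    rw [hφapp, hΨ'app, hψ''eq]
    show _ = ((s'' : Ω) * (s' : Ω)⁻¹) * _ * ((s'' : Ω) * (s' : Ω)⁻¹)⁻¹
    group
  have hfin := hCL Ω S p hS F hF A δ T hD Q M hQ hQM hMT hMnorm hrig φ hφF hφQ γ hγφ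
    (s'' * s'⁻¹) hdec
  rwa [map_mul, map_inv] at hfin


theorem main (hCL : Compat.{u, v}) (hDI : DegInv.{u, v}) (hSR : StarRestrict.{u})
    (hSI : StarInv.{u}) (hSC : StarConj.{u}) (hSMem : StarMem.{u}) (hSS : StarSubtype.{u})
    (hLM : LDegMul.{u, v}) (hLR : LDegRes.{u, v}) : TelBase.{u, v} := by
  intro Ω _ S _ p _ hS F hF A _ δ T hD Q hQ hQT hQlt hbig R hRS β hβ P' P'' hP'R hP'T hβP
    hc' hc'' χ' χ'' s' s'' hχ' hχ'' hd' hd'' hχ'Q hχ''Q γ hγ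
  have hTS : T ≤ S := hD.le
  haveI : Finite T := finite_of_le hTS
  haveI : Finite R := finite_of_le hRS
  haveI : Finite P' := finite_of_le (hP'T.trans hTS)
  haveI : Finite Q := finite_of_le hQ.1
  have hβF : R.subtype.comp (β : MulAut R).toMonoidHom ∈ F.Hom R :=
    (mem_autGroup_iff F hRS _).mp β.2
  have hβT : ∀ x : R, (((β : MulAut R) x : R) : Ω) ∈ T ↔ (x : Ω) ∈ T :=
    fun x => mem_T_iff hDI p hS F hF δ T hD hβF x
  -- β maps P' onto P''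
  haveI : Finite P'' := by
    apply Nat.finite_of_card_ne_zero
    rw [hc'']
    exact Nat.card_pos.ne'
  have hβsurj : ∀ y : P'', ∃ x : R, (x : Ω) ∈ P' ∧ (((β : MulAut R) x : R) : Ω) = y := by
    let f : P' → P'' := fun x => ⟨((β : MulAut R) ⟨x, hP'R x.2⟩ : R), hβP _ x.2⟩
    have hf : Function.Injective f := by
      intro a b hab
      have h1 : (((β : MulAut R) ⟨a, hP'R a.2⟩ : R) : Ω) = ((β : MulAut R) ⟨b, hP'R b.2⟩ : R) :=
        congrArg (fun z : P'' => (z : Ω)) hab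
      have h2 := (β : MulAut R).injective (Subtype.ext h1)
      exact Subtype.ext (congrArg (fun z : R => (z : Ω)) h2)
    intro y
    obtain ⟨x, hx⟩ := surj_of_card f hf (hc'.trans hc''.symm) y
    exact ⟨⟨x, hP'R x.2⟩, x.2, congrArg Subtype.val hx⟩
  by_cases hcase : ∃ m : Ω, m ∈ R ∧ m ∈ normalizerIn T P' ∧ m ∉ P'
  · -- case 1: `N_{R ∩ T}(P') > P'`
    obtain ⟨m, hmR, hmN, hmP⟩ := hcase
    have hP'M₀ : P' ≤ R ⊓ normalizerIn T P' :=
      le_inf hP'R (fun x hx => ⟨hP'T hx, Subgroup.le_normalizer hx⟩)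
    have hM₀N : R ⊓ normalizerIn T P' ≤ normalizerIn T P' := inf_le_right
    haveI : Finite ↥(R ⊓ normalizerIn T P') := finite_of_le (inf_le_left.trans hRS)
    have hlt : Nat.card P' < Nat.card ↥(R ⊓ normalizerIn T P') := by
      by_contra hcon
      have h := Subgroup.eq_of_le_of_card_ge hP'M₀ (not_lt.mp hcon)
      exact hmP (h ▸ ⟨hmR, hmN⟩)
    have hζ : Star F p (R ⊓ normalizerIn T P')
        ((R.subtype.comp (β : MulAut R).toMonoidHom).comp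
          (Subgroup.inclusion (inf_le_left : R ⊓ normalizerIn T P' ≤ R))) :=
      Star.base hRS β hβ inf_le_left
    have hζN : ∀ x : ↥(R ⊓ normalizerIn T P'),
        ((R.subtype.comp (β : MulAut R).toMonoidHom).comp
          (Subgroup.inclusion (inf_le_left : R ⊓ normalizerIn T P' ≤ R))) x ∈
            normalizerIn T P'' := by
      intro x
      refine ⟨(hβT _).mpr x.2.2.1, ?_⟩
      apply mem_normalizer_of_forall
      · intro t ht
        obtain ⟨y, hyP, hy⟩ := hβsurj ⟨t, ht⟩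
        have hy' : (((β : MulAut R) y : R) : Ω) = t := hy
        have e1 : ((R.subtype.comp (β : MulAut R).toMonoidHom).comp
            (Subgroup.inclusion (inf_le_left : R ⊓ normalizerIn T P' ≤ R))) x * t *
            (((R.subtype.comp (β : MulAut R).toMonoidHom).comp
            (Subgroup.inclusion (inf_le_left : R ⊓ normalizerIn T P' ≤ R))) x)⁻¹ =
            (((β : MulAut R) (⟨x, x.2.1⟩ * y * ⟨x, x.2.1⟩⁻¹) : R) : Ω) := by
          rw [← hy', map_mul, map_mul, map_inv]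
          rfl
        rw [e1]
        apply hβP
        exact (x.2.2.2 y).mp hyP
      · intro t ht
        obtain ⟨y, hyP, hy⟩ := hβsurj ⟨t, ht⟩
        have hy' : (((β : MulAut R) y : R) : Ω) = t := hy
        have e1 : (((R.subtype.comp (β : MulAut R).toMonoidHom).comp
            (Subgroup.inclusion (inf_le_left : R ⊓ normalizerIn T P' ≤ R))) x)⁻¹ * t *
            ((R.subtype.comp (β : MulAut R).toMonoidHom).comp
            (Subgroup.inclusion (inf_le_left : R ⊓ normalizerIn T P' ≤ R))) x =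
            (((β : MulAut R) (⟨x, x.2.1⟩⁻¹ * y * ⟨x, x.2.1⟩) : R) : Ω) := by
          rw [← hy', map_mul, map_mul, map_inv]
          rfl
        rw [e1]
        apply hβP
        exact (Subgroup.mem_normalizer_iff''.mp x.2.2.2 y).mp hyP
    exact gen hCL hDI hSR hSI hSC hSMem p hS F hF δ T hD Q hQ hQT hbig P' P'' hc' χ' χ'' s' s''
      hχ' hχ'' hd' hd'' hχ'Q hχ''Q (R ⊓ normalizerIn T P') hP'M₀ hM₀N hlt _ hζ hζN
      (fun x hx => hβP _ hx) γ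
      (fun x hxP hq => hγ ⟨x, x.2.1⟩ hxP (hM₀N x.2) hq (hζN x))
  · -- case 2: `R ∩ T = P'`
    push Not at hcase
    have hRT : R ⊓ T ≤ P' := by
      by_contra hne
      have hne' : P' ≠ R ⊓ T := fun h => hne (h ▸ le_rfl)
      have hP'RT : P' ≤ R ⊓ T := le_inf hP'R hP'T
      haveI : Finite ↥(R ⊓ T) := finite_of_le (inf_le_left.trans hRS)
      have hpRT : IsPGroup p ↥(R ⊓ T) := hS.to_le (inf_le_left.trans hRS)
      obtain ⟨g, hgN, hgP⟩ := lt_normalizerIn hpRT hP'RT hne'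
      exact hgP (hcase g hgN.1.1 ⟨hgN.1.2, hgN.2⟩)
    have hstab : ∀ a ∈ F.autGroup R, ∀ x : R, (x : Ω) ∈ P' → ((a x : R) : Ω) ∈ P' := by
      intro a ha x hx
      apply hRT
      refine ⟨(a x).2, ?_⟩
      exact (mem_T_iff hDI p hS F hF δ T hD ((mem_autGroup_iff F hRS a).mp ha) x).mpr (hP'T hx)
    -- P'' = P'
    have hP''le : P'' ≤ P' := by
      intro y hy
      obtain ⟨x, hxP, hx⟩ := hβsurj ⟨y, hy⟩
      have hx' : (((β : MulAut R) x : R) : Ω) = y := hx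
      rw [← hx']
      exact hstab _ β.2 x hxP
    obtain rfl : P'' = P' := Subgroup.eq_of_le_of_card_ge hP''le (by rw [hc', hc''])
    have hP'N : P'' ≤ normalizerIn T P'' := fun x hx => ⟨hP'T hx, Subgroup.le_normalizer hx⟩
    -- the restriction of β to P'
    have hb : resAutHom F hRS hP'R hstab β ∈ pResidual p (F.autGroup P'') :=
      pResidual_map_hom _ hβ
    -- the iso P' ≃ Q given by χ'
    have hφ₁ : χ'.comp (Subgroup.inclusion hP'N) ∈ F.Hom P'' := restrict_mem F hχ' hP'N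
    have hrange : (χ'.comp (Subgroup.inclusion hP'N)).range = Q := by
      apply le_antisymm
      · rintro _ ⟨x, rfl⟩
        exact hχ'Q _ x.2
      · intro y hy
        let f : P'' → Q := fun x => ⟨χ' ⟨x, hP'N x.2⟩, hχ'Q _ x.2⟩
        have hf : Function.Injective f := by
          intro a b hab
          have h1 : χ' ⟨a, hP'N a.2⟩ = χ' ⟨b, hP'N b.2⟩ := congrArg Subtype.val hab
          have h2 := F.injective_of_mem hχ' h1
          exact Subtype.ext (congrArg (fun z : ↥(normalizerIn T P'') => (z : Ω)) h2)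
        obtain ⟨x, hx⟩ := surj_of_card f hf hc' ⟨y, hy⟩
        exact ⟨x, congrArg Subtype.val hx⟩
    have he := isIso_isoOf F hφ₁ hrange
    have hn : autCongrHom F he (resAutHom F hRS hP'R hstab β) ∈ pResidual p (F.autGroup Q) :=
      pResidual_map_of_injective _ (autCongrHom_injective F he) hb
    have hn1 := hLR Ω S F p A δ Q hQ.1 _ hn
    -- γa := γ * n⁻¹
    have hT' : IsPGroup p T := hS.to_le hTS
    have hneT : P'' ≠ T := by
      intro h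
      rw [h] at hc'
      omega
    have hlt : Nat.card P'' < Nat.card ↥(normalizerIn T P'') :=
      card_lt_card_normalizerIn hT' hP'T hneT
    have hNS : normalizerIn T P'' ≤ S := inf_le_left.trans hTS
    have hζ : Star F p (normalizerIn T P'') (normalizerIn T P'').subtype :=
      hSS Ω S F p _ hNS
    have hγa : LDeg F p δ Q
        (γ * ((autCongrHom F he (resAutHom F hRS hP'R hstab β) : F.autGroup Q) : MulAut Q)⁻¹)
        (δ s'' * (δ s')⁻¹) := by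
      refine gen hCL hDI hSR hSI hSC hSMem p hS F hF δ T hD Q hQ hQT hbig P'' P'' hc' χ' χ''
        s' s'' hχ' hχ'' hd' hd'' hχ'Q hχ''Q (normalizerIn T P'') hP'N le_rfl hlt _ hζ
        (fun x => x.2) (fun x hx => hx) _ ?_
      intro x hxP hq
      -- x₀ := x as an element of P', x₁ := b⁻¹ x₀
      set b := resAutHom F hRS hP'R hstab β with hbdef
      set n := autCongrHom F he b with hndef
      set e := isoOf F hφ₁ hrange with hedef
      have hex : e ⟨x, hxP⟩ = ⟨χ' ⟨x, x.2⟩, hq⟩ := Subtype.ext rfl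
      set x₁ : P'' := (b : MulAut P'')⁻¹ ⟨x, hxP⟩ with hx₁def
      have hnx : (n : MulAut Q) (e x₁) = e ⟨x, hxP⟩ := by
        rw [autCongrHom_apply, MulEquiv.symm_apply_apply, hx₁def, MulAut.apply_inv_self]
      have hninv : (n : MulAut Q)⁻¹ (e ⟨x, hxP⟩) = e x₁ := by
        rw [← hnx, MulAut.inv_apply_self]
      have h1 := hγ ⟨x₁, hP'R x₁.2⟩ x₁.2 (hP'N x₁.2) (hχ'Q _ x₁.2)
        (hP'N (hstab _ β.2 _ x₁.2))
      have hbx : (((β : MulAut R) ⟨x₁, hP'R x₁.2⟩ : R) : Ω) = x := by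
        have h2 : (((b : MulAut P'') x₁ : P'') : Ω) = (((β : MulAut R) ⟨x₁, hP'R x₁.2⟩ : R) : Ω) :=
          coe_resAutHom F hRS hP'R hstab β x₁
        rw [← h2, hx₁def, MulAut.apply_inv_self]
      show ((γ ((n : MulAut Q)⁻¹ ⟨χ' ⟨x, x.2⟩, hq⟩) : Q) : Ω) = χ'' ⟨x, x.2⟩
      rw [← hex, hninv]
      have hex₁ : e x₁ = ⟨χ' ⟨x₁, hP'N x₁.2⟩, hχ'Q _ x₁.2⟩ := Subtype.ext rfl
      rw [hex₁, h1]
      congr 1
      exact Subtype.ext hbx
    have hfin := hLM Ω S F p A δ Q hQ.1 _ _ _ _ hγa hn1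
    rwa [inv_mul_cancel_right, mul_one] at hfin

end Cfsg.Agent.Lib.Helper85.PPTB
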