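import Cfsg.Agent.Lib.Helper11.PPRS
import Cfsg.Agent.Lib.Helper11.PPRT
import Cfsg.Agent.Lib.Helper41.PPSB1
import Cfsg.Agent.Lib.Helper41.PPSB2
import Cfsg.Agent.Lib.Helper58.PPSAT
import Cfsg.Agent.Lib.Helper59.PPHM
import Cfsg.Agent.Lib.Helper59.PPLB
import Cfsg.Agent.Lib.Helper62.PPFOC
import Cfsg.Agent.Lib.Helper62.PPLOC
import Cfsg.Agent.Lib.Helper64.PPSYS
import Cfsg.Agent.Lib.Helper65.PPFNC
import Cfsg.Agent.Lib.Helper65.PPSFA
import Cfsg.Agent.Lib.Helper67.PPMAX
import Cfsg.Agent.Lib.Helper67.PPQUO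
import Cfsg.Agent.Lib.Helper67.PPSR
import Cfsg.Agent.Lib.Helper67.PPTR
import Cfsg.Agent.Lib.Helper69.PPKL1
import Cfsg.Agent.Lib.Helper69.PPTI
import Cfsg.Agent.Lib.Helper82.PPHB
import Cfsg.Agent.Lib.Helper82.PPLU
import Cfsg.Agent.Lib.Helper93.PPDINV
import Cfsg.Agent.Lib.Helper93.PPPPI
import Cfsg.Agent.Lib.Helper93.PPRC
import Cfsg.Agent.Lib.Helper93.PPRD
import Cfsg.Agent.Lib.Helper98.PPSB3
import Cfsg.Agent.Lib.Helper98.PPSM
import Cfsg.Agent.Lib.Helper41.PPCL
import Cfsg.Agent.Lib.Helper98.PPSRC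
import Cfsg.Agent.Lib.Helper85.PPTB
import Cfsg.Agent.Lib.Helper85.PPAsm

/-!
# S5113: final assembly of the pieces

Every piece of the split of S5113 (see `PPStmt`) is chained here.
-/

namespace Cfsg.Agent.Lib.Helper85.PPFinal

open Cfsg.Agent.Lib Cfsg.Agent.Lib.Helper85.PPStmt

universe u v

theorem starMem : StarMem.{u} := Helper41.PPSB1.mem
theorem starRestrict : StarRestrict.{u} := Helper41.PPSB1.restrict
theorem starHyp : StarHyp.{u} := Helper41.PPSB1.hyp
theorem starOfResid : StarOfResid.{u} := Helper41.PPSB1.ofResid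
theorem starSubtype : StarSubtype.{u} := Helper41.PPSB1.subtype
theorem starConj : StarConj.{u} := Helper41.PPSB2.main
theorem starInv : StarInv.{u} := Helper98.PPSB3.main
theorem starMono : StarMono.{u} := Helper98.PPSM.main
theorem starRes : StarRes.{u} := Helper67.PPSR.main
theorem keyDec : KeyDec.{u} := Helper69.PPKL1.main starRestrict starConj starInv starOfResid
theorem degInv : DegInv.{u, v} := Helper93.PPDINV.main keyDec starHyp
theorem sysExists : SysExists.{u} :=
  Helper64.PPSYS.main starMem starHyp starSubtype starConj starInv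
theorem sysPPI : SysPPI.{u} := Helper93.PPPPI.main starMem starOfResid
theorem rigidConj : RigidConj.{u, v} := Helper93.PPRC.main keyDec starMem starConj starInv
theorem rigidDeg : RigidDeg.{u, v} := Helper93.PPRD.main starMem starInv rigidConj
theorem focalKer : FocalKer.{u, v} := Helper62.PPFOC.main
theorem localKer : LocalKer.{u, v} := Helper62.PPLOC.main focalKer degInv
theorem lDegUniq : LDegUniq.{u, v} := Helper82.PPLU.main localKer
theorem lDegEx : LDegEx.{u, v} := Helper59.PPLB.ex
theorem lDegMul : LDegMul.{u, v} := Helper59.PPLB.mul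
theorem lDegRes : LDegRes.{u, v} := Helper59.PPLB.res
theorem compat : Compat.{u, v} := Helper41.PPCL.main keyDec starMono starRes rigidDeg
theorem telBase : TelBase.{u, v} :=
  PPTB.main compat degInv starRestrict starInv starConj starMem starSubtype lDegMul lDegRes
theorem tel : Tel.{u, v} := Helper69.PPTI.main telBase keyDec starMem starHyp lDegMul
theorem rigidStep : RigidStep.{u, v} := Helper11.PPRS.main tel lDegUniq lDegRes starSubtype
theorem rigidTop : RigidTop.{u, v} := Helper11.PPRT.main starRes localKer degInv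
theorem bigRigid : BigRigid.{u, v} := Helper82.PPHB.main rigidConj degInv
theorem rigidAll : PPAsm.RigidAll.{u, v} := PPAsm.rigidAll rigidTop rigidStep bigRigid
theorem satFA : SatFA.{u, v} := Helper65.PPSFA.main starOfResid starMem
theorem fnConj : FNConj.{u} := Helper65.PPFNC.main
theorem satRec : SatRec.{u, v} :=
  Helper98.PPSRC.main keyDec rigidDeg rigidConj starMem starRestrict
theorem satMain : SatMain.{u, v} := Helper58.PPSAT.main satFA satRec fnConj keyDec starHyp
theorem idxP : PPAsm.IdxP.{u} :=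
  PPAsm.idxP Helper67.PPQUO.main sysExists sysPPI rigidAll satMain
theorem ex : PPAsm.Ex.{u} :=
  PPAsm.ex idxP Helper67.PPMAX.main Helper59.PPHM.main Helper67.PPTR.main

end Cfsg.Agent.Lib.Helper85.PPFinal
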