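import Cfsg.Agent.Lib.Helper85.SCStmt
import Cfsg.Agent.Lib.Helper87.FSAlperin

/-! S5127 / SCALP: the Alperin induction for "maps of `F` map `C` into `C`". -/

set_option autoImplicit false

namespace Cfsg.Agent.Lib.Helper85.SCALP

open Cfsg Cfsg.FusionSystem Cfsg.Agent.Lib.Helper85.SCStmt Cfsg.Agent.H85

universe u

/-- the subsystem of the maps of `F` that map `C` to `C` in both directions -/
def stabSys {Ω : Type u} [Group Ω] {S : Subgroup Ω} (F : FusionSystem S) (C : Subgroup Ω)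
    (hC : ∀ s ∈ S, ∀ x ∈ C, s * x * s⁻¹ ∈ C) : FusionSystem S where
  Hom Q := {φ | φ ∈ F.Hom Q ∧ ∀ x : Q, (x : Ω) ∈ C ↔ φ x ∈ C}
  le_of_mem h := F.le_of_mem h.1
  injective_of_mem h := F.injective_of_mem h.1
  conj_mem := by
    intro P g hP hg
    refine ⟨F.conj_mem hP hg, fun x => ?_⟩
    constructor
    · intro hx
      exact hC g hg x hx
    · intro hx
      have h1 : g * (x : Ω) * g⁻¹ ∈ C := hx
      have h2 := hC g⁻¹ (S.inv_mem hg) _ h1
      have h3 : g⁻¹ * (g * (x : Ω) * g⁻¹) * g⁻¹⁻¹ = (x : Ω) := by group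
      rw [h3] at h2
      exact h2
  comp_mem := by
    intro P Q φ ψ hφ hψ h
    refine ⟨F.comp_mem hφ.1 hψ.1 h, fun x => ?_⟩
    rw [hφ.2 x]
    exact hψ.2 ⟨φ x, h x⟩
  inv_mem := by
    intro P φ hφ
    obtain ⟨ψ, hψ, hψx⟩ := F.inv_mem hφ.1
    refine ⟨ψ, ⟨hψ, ?_⟩, hψx⟩
    rintro ⟨y, x, rfl⟩
    have h1 : ψ ⟨φ x, ⟨x, rfl⟩⟩ = (x : Ω) := hψx x
    show φ x ∈ C ↔ ψ ⟨φ x, ⟨x, rfl⟩⟩ ∈ C
    rw [h1]
    exact (hφ.2 x).symm

theorem main : Alp.{u} := by
  intro Ω _ S _ p _ hS F hF C hC hstep Q φ hφ x hx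
  have key := Cfsg.Agent.Lib.Helper87.FSAlperin.alperin_induction hS F hF (stabSys F C hC) ?_ Q hφ
  · exact (key.2 x).mp hx
  · intro Y hfa hrec hbig α hα hr
    refine ⟨hα, ?_⟩
    have hIH : IH F C (Nat.card Y) := by
      intro R hR ψ hψ y hy
      exact ((hbig R hR hψ).2 y).mp hy
    have hYS : Y ≤ S := hfa.1
    have hinj := F.injective_of_mem hα
    let a : MulAut Y := (MonoidHom.ofInjective hinj).trans (MulEquiv.subgroupCongr hr)
    have ha : ∀ y : Y, ((a y : Y) : Ω) = α y := fun y => rfl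
    have haF : a ∈ F.autGroup Y := by
      rw [mem_autGroup_iff F hYS]
      exact hom_congr F hα (fun y => ha y)
    have h1 := hstep Y hfa hrec hIH a haF
    have h2 := hstep Y hfa hrec hIH a⁻¹ (Subgroup.inv_mem _ haF)
    intro y
    constructor
    · intro hy
      rw [← ha y]
      exact h1 y hy
    · intro hy
      have h3 := h2 (a y) (by rw [ha y]; exact hy)
      have h4 : a⁻¹ (a y) = y := by
        show a.symm (a y) = y
        exact a.symm_apply_apply y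
      rwa [h4] at h3

end Cfsg.Agent.Lib.Helper85.SCALP
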