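import Cfsg.Agent.Lib.Helper85.SCStmt

/-! S5127, strong closure part: assembly of `CEStmt.LargestClosed` from the pieces of `SCStmt`
and `CEStmt.JAll`. -/

set_option autoImplicit false

namespace Cfsg.Agent.Lib.Helper85.SCAsm

open Cfsg Cfsg.FusionSystem Cfsg.Agent.Lib.Helper88.FCStmt Cfsg.Agent.Lib.Helper88.CEStmt
  Cfsg.Agent.Lib.Helper85.SCStmt

universe u

theorem largestClosed (hTrans : Trans.{u}) (hCNorm : CNorm.{u}) (hAlp : Alp.{u})
    (hNonCen : NonCen.{u}) (hStabP : StabP.{u}) (hStabExt : StabExt.{u})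
    (hStabInn : StabInnP.{u}) (hCent : Cent.{u}) (hECen1 : ECen1.{u}) (hStabTr : StabTr.{u})
    (hECenB : ECenB.{u}) (hECen : ECen.{u}) (hGen : Gen.{u}) (hAEN : AENormal.{u})
    (hSAut : SAut.{u}) (hNext : Next.{u}) (hPPrime : PPrime.{u}) (hUFixG : UFixG.{u})
    (hStep3 : Step3.{u}) (hJAll : JAll.{u}) : LargestClosed.{u} := by
  intro Ω _ S _ p _ hS F hF T E hE C hC0 hCcen hmax
  have hT : F.StronglyClosed T := hE.1.2.2.2.1
  have hCN := hCNorm hTrans p hS F hF E hE C hC0 hCcen hmax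
  have hnorm : ∀ s ∈ S, ∀ x ∈ C, s * x * s⁻¹ ∈ C := by
    intro s hs x hx
    have hxS : x ∈ S := (hC0 hx).1
    exact hCN S hT.1 (conjHom S s) (F.conj_mem le_rfl hs) ⟨x, hxS⟩ hx
  have key := hAlp p hS F hF C hnorm (by
    intro Y hfa hrec hIH α hα
    by_cases h1 : centralizerIn S Y ≤ Y
    swap
    · exact hNonCen F C Y hrec h1 hIH α hα
    by_cases h2 : T ≤ Y
    · intro x hx
      have hmem := (Cfsg.Agent.H85.mem_autGroup_iff F hrec.1 α).mp hα
      exact hCN Y h2 _ hmem x hx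
    have hSI : StabInS F T Y := hStabP p hS F T hT Y hfa
    by_cases h3 : ∃ g ∈ normalizerIn S Y, g ∉ Y ∧ StabElt T Y g
    · obtain ⟨g, hg, hgY, hgs⟩ := h3
      exact hStabExt F T hT C Y hrec hSI g hg hgY hgs hIH α hα
    · have h3' : ∀ g ∈ normalizerIn S Y, StabElt T Y g → g ∈ Y := by
        intro g hg hs
        by_contra hgY
        exact h3 ⟨g, hg, hgY, hs⟩
      have hinn : StabInn F T Y := hStabInn F T Y hSI h3'
      have hcen : F.IsCentric Y := hCent F Y hrec h1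
      have hEc : E.IsCentric (Y ⊓ T) :=
        hECen hECen1 hStabTr hECenB p hS F hF E hE Y hcen hinn
      have hJ : JAt F E (Y ⊓ T) := hJAll p hS F hF E hE (Y ⊓ T) hEc
      exact hStep3 hGen hAEN hSAut hNext hPPrime hUFixG p hS F hF E hE C hC0 hCcen hnorm Y hfa
        hrec h2 hEc hJ hIH α hα)
  exact ⟨fun x hx => (hC0 hx).1, fun R hR φ hφ x => key R φ hφ x (hR x.2)⟩

end Cfsg.Agent.Lib.Helper85.SCAsm
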